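import Mathlib
import Cfsg.Prelude
import Cfsg.Agent.Lib.Helper1.SiegelParOdd
import Cfsg.Agent.Lib.Helper1.SUMin.Defs

set_option autoImplicit false

/-!
Definitions for S2524 (the gap between the Weil characters of `Sp_2n(q)`, `q` odd, and the rest):
Siegel multiplicities `qmult`, `QSmall` / `PureSmall` characters, Weil pairs, the classification
statement `Classif`, and the subgroup geometry of `Sp (m+1)` around the first hyperbolic pair
(the embedding `ιK : Sp 1 × Sp m → Sp (m+1)`, the root elements `zE yE xE hT`, the parabolic `P1`).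
-/

namespace Cfsg.Agent.Lib.Helper2.WG

open Matrix Cfsg Cfsg.Agent.H9SpF Cfsg.Agent.Lib.Helper6.Siegel Cfsg.Agent.Lib.Helper1.SUMin
open scoped ComplexConjugate

universe u

/-- the symplectic group `Sp_{2n}(F)` -/
abbrev Sp (n : ℕ) (F : Type u) [Field F] : Type u := symplecticGroup (Fin n) F

section basic

variable {F : Type u} [Field F] [Fintype F] {n : ℕ}

noncomputable instance symFintype : Fintype (symAdd n F) := Fintype.ofFinite _

noncomputable instance spFintype : Fintype (Sp n F) := Fintype.ofFinite _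

/-- the multiplicity of the character `S ↦ ψ (tr (M S))` of the Siegel radical in `χ` -/
noncomputable def qmult (ψ : AddChar F ℂ) (χ : Sp n F → ℂ) (M : Matrix (Fin n) (Fin n) F) : ℂ :=
  isoAvg (siegHom (n := n) (F := F)) (fun S => trChar ψ M S) χ 1

theorem qmult_def (ψ : AddChar F ℂ) (χ : Sp n F → ℂ) (M : Matrix (Fin n) (Fin n) F) :
    qmult ψ χ M = (Fintype.card (symAdd n F) : ℂ)⁻¹ *
      ∑ S : symAdd n F, conj (trChar ψ M S) * χ (siegHom S) := by
  unfold qmult
  rw [isoAvg_apply]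
  simp only [mul_one]

/-- all Siegel constituents have rank at most one -/
def QSmall (ψ : AddChar F ℂ) (χ : Sp n F → ℂ) : Prop :=
  ∀ M : Matrix (Fin n) (Fin n) F, M.IsSymm → qmult ψ χ M ≠ 0 →
    ∃ (c : F) (w : Fin n → F), M = c • vecMulVec w w

/-- all Siegel constituents are `0` or of rank one in the class of `c` -/
def PureSmall (ψ : AddChar F ℂ) (c : F) (χ : Sp n F → ℂ) : Prop :=
  ∀ M : Matrix (Fin n) (Fin n) F, M.IsSymm → qmult ψ χ M ≠ 0 →
    ∃ w : Fin n → F, M = c • vecMulVec w w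

/-- the central element `-g` -/
def negS (g : Sp n F) : Sp n F := ⟨-g.1, SymplecticGroup.neg_mem g.2⟩

/-- a pair of Weil characters of class `c`, with central sign `ε` on the first one -/
structure IsWeilPair (ψ : AddChar F ℂ) (c : F) (E O : Sp n F → ℂ) (ε : ℂ) : Prop where
  irrE : IsIrrCharacter (Sp n F) E
  irrO : IsIrrCharacter (Sp n F) O
  qE_one : ∀ w : Fin n → F, qmult ψ E (c • vecMulVec w w) = 1
  qE_zero : ∀ M : Matrix (Fin n) (Fin n) F, M.IsSymm →
    (¬ ∃ w : Fin n → F, M = c • vecMulVec w w) → qmult ψ E M = 0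
  qO_one : ∀ w : Fin n → F, w ≠ 0 → qmult ψ O (c • vecMulVec w w) = 1
  qO_origin : qmult ψ O 0 = 0
  qO_zero : ∀ M : Matrix (Fin n) (Fin n) F, M.IsSymm →
    (¬ ∃ w : Fin n → F, M = c • vecMulVec w w) → qmult ψ O M = 0
  sign : ε = 1 ∨ ε = -1
  negE : ∀ g, E (negS g) = ε * E g
  negO : ∀ g, O (negS g) = -ε * O g
  degE : E 1 = (((Fintype.card F) ^ n + 1 : ℕ) : ℂ) / 2
  degO : O 1 = (((Fintype.card F) ^ n - 1 : ℕ) : ℂ) / 2

/-- the classification of class-pure small irreducible characters of `Sp n` -/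
def Classif (ψ : AddChar F ℂ) (n : ℕ) : Prop :=
  ∀ (c : F), c ≠ 0 → ∀ (E O : Sp n F → ℂ) (ε : ℂ), IsWeilPair ψ c E O ε →
    ∀ β : Sp n F → ℂ, IsIrrCharacter (Sp n F) β → PureSmall ψ c β →
      β = (fun _ => 1) ∨ β = E ∨ β = O

end basic

section geom

set_option linter.unusedSectionVars false

variable {F : Type u} [Field F] {m : ℕ}

/-- `Fin 1 ⊕ Fin m ≃ Fin (m+1)`: the extra coordinate is `0` -/
def e0 (m : ℕ) : Fin 1 ⊕ Fin m ≃ Fin (m + 1) where
  toFun := Sum.elim (fun _ => 0) Fin.succ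
  invFun := Fin.cases (Sum.inl 0) Sum.inr
  left_inv := by
    rintro (i | i)
    · have : i = 0 := Subsingleton.elim _ _
      subst this
      simp
    · simp
  right_inv := by
    intro i
    refine Fin.cases ?_ (fun j => ?_) i <;> simp

@[simp] theorem e0_inl (m : ℕ) (i : Fin 1) : e0 m (Sum.inl i) = 0 := rfl
@[simp] theorem e0_inr (m : ℕ) (i : Fin m) : e0 m (Sum.inr i) = i.succ := rfl
@[simp] theorem e0_symm_zero (m : ℕ) : (e0 m).symm 0 = Sum.inl 0 := rfl
@[simp] theorem e0_symm_succ (m : ℕ) (i : Fin m) : (e0 m).symm i.succ = Sum.inr i := by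
  simp [e0]

/-- the index equivalence behind `Sp 1 × Sp m → Sp (m+1)` -/
def eIdx (m : ℕ) : (Fin 1 ⊕ Fin 1) ⊕ (Fin m ⊕ Fin m) ≃ Fin (m + 1) ⊕ Fin (m + 1) :=
  (Equiv.sumSumSumComm (Fin 1) (Fin 1) (Fin m) (Fin m)).trans (Equiv.sumCongr (e0 m) (e0 m))

/-- block diagonal sum of a `2×2` and a `2m×2m` matrix, in the coordinates of `Sp (m+1)` -/
def dsumM (A : Matrix (Fin 1 ⊕ Fin 1) (Fin 1 ⊕ Fin 1) F)
    (B : Matrix (Fin m ⊕ Fin m) (Fin m ⊕ Fin m) F) :
    Matrix (Fin (m + 1) ⊕ Fin (m + 1)) (Fin (m + 1) ⊕ Fin (m + 1)) F :=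
  Matrix.reindex (eIdx m) (eIdx m) (Matrix.fromBlocks A 0 0 B)

theorem dsumM_mul (A A' : Matrix (Fin 1 ⊕ Fin 1) (Fin 1 ⊕ Fin 1) F)
    (B B' : Matrix (Fin m ⊕ Fin m) (Fin m ⊕ Fin m) F) :
    dsumM A B * dsumM A' B' = dsumM (A * A') (B * B') := by
  unfold dsumM
  rw [Matrix.reindex_apply, Matrix.reindex_apply, Matrix.reindex_apply,
    Matrix.submatrix_mul_equiv, Matrix.fromBlocks_multiply]
  simp

theorem dsumM_transpose (A : Matrix (Fin 1 ⊕ Fin 1) (Fin 1 ⊕ Fin 1) F)
    (B : Matrix (Fin m ⊕ Fin m) (Fin m ⊕ Fin m) F) :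
    (dsumM A B)ᵀ = dsumM Aᵀ Bᵀ := by
  unfold dsumM
  rw [Matrix.reindex_apply, Matrix.reindex_apply, Matrix.transpose_submatrix,
    Matrix.fromBlocks_transpose]
  simp

theorem dsumM_one : dsumM (1 : Matrix (Fin 1 ⊕ Fin 1) (Fin 1 ⊕ Fin 1) F)
    (1 : Matrix (Fin m ⊕ Fin m) (Fin m ⊕ Fin m) F) = 1 := by
  unfold dsumM
  rw [Matrix.fromBlocks_one, Matrix.reindex_apply, Matrix.submatrix_one_equiv]

theorem dsumM_J : dsumM (J (Fin 1) F) (J (Fin m) F) = J (Fin (m + 1)) F := by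
  ext i j
  unfold dsumM
  rw [Matrix.reindex_apply, Matrix.submatrix_apply]
  rcases i with i | i <;> rcases j with j | j <;>
    refine Fin.cases ?_ (fun i' => ?_) i <;> refine Fin.cases ?_ (fun j' => ?_) j <;>
    simp [eIdx, J, Matrix.one_apply, Fin.succ_ne_zero, Ne.symm (Fin.succ_ne_zero _)]

theorem dsumM_mem {A : Matrix (Fin 1 ⊕ Fin 1) (Fin 1 ⊕ Fin 1) F}
    {B : Matrix (Fin m ⊕ Fin m) (Fin m ⊕ Fin m) F} (hA : A ∈ symplecticGroup (Fin 1) F)
    (hB : B ∈ symplecticGroup (Fin m) F) : dsumM A B ∈ symplecticGroup (Fin (m + 1)) F := by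
  rw [SymplecticGroup.mem_iff] at hA hB ⊢
  rw [← dsumM_J, dsumM_transpose, dsumM_mul, dsumM_mul, hA, hB]

/-- the embedding `Sp 1 × Sp m → Sp (m+1)` onto the stabiliser of the first hyperbolic plane -/
def ιK : Sp 1 F × Sp m F →* Sp (m + 1) F where
  toFun p := ⟨dsumM p.1.1 p.2.1, dsumM_mem p.1.2 p.2.2⟩
  map_one' := by
    apply Subtype.ext
    exact dsumM_one
  map_mul' p p' := by
    apply Subtype.ext
    exact (dsumM_mul _ _ _ _).symm

theorem ιK_coe (p : Sp 1 F × Sp m F) :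
    ((ιK p : Sp (m + 1) F) : Matrix (Fin (m + 1) ⊕ Fin (m + 1)) (Fin (m + 1) ⊕ Fin (m + 1)) F) =
      dsumM p.1.1 p.2.1 := rfl

/-- `Sp 1 → Sp (m+1)` on the first hyperbolic plane -/
def ιS : Sp 1 F →* Sp (m + 1) F := (ιK (m := m)).comp (MonoidHom.inl _ _)

/-- `Sp m → Sp (m+1)` on the last `m` hyperbolic planes -/
def ιG : Sp m F →* Sp (m + 1) F := (ιK (m := m)).comp (MonoidHom.inr _ _)

theorem ιS_apply (s : Sp 1 F) : (ιS s : Sp (m + 1) F) = ιK (s, 1) := rfl
theorem ιG_apply (g : Sp m F) : (ιG g : Sp (m + 1) F) = ιK (1, g) := rfl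

/-- the symmetric matrix `[[s, vᵀ], [v, S']]` -/
def bsym (s : F) (v : Fin m → F) (S' : Matrix (Fin m) (Fin m) F) :
    Matrix (Fin (m + 1)) (Fin (m + 1)) F :=
  Matrix.of fun i j => Fin.cases (Fin.cases s v j) (fun i' => Fin.cases (v i') (fun j' => S' i' j') j) i

@[simp] theorem bsym_zero_zero (s : F) (v : Fin m → F) (S' : Matrix (Fin m) (Fin m) F) :
    bsym s v S' 0 0 = s := rfl
@[simp] theorem bsym_zero_succ (s : F) (v : Fin m → F) (S' : Matrix (Fin m) (Fin m) F) (j : Fin m) :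
    bsym s v S' 0 j.succ = v j := rfl
@[simp] theorem bsym_succ_zero (s : F) (v : Fin m → F) (S' : Matrix (Fin m) (Fin m) F) (i : Fin m) :
    bsym s v S' i.succ 0 = v i := rfl
@[simp] theorem bsym_succ_succ (s : F) (v : Fin m → F) (S' : Matrix (Fin m) (Fin m) F)
    (i j : Fin m) : bsym s v S' i.succ j.succ = S' i j := rfl

theorem bsym_isSymm (s : F) (v : Fin m → F) {S' : Matrix (Fin m) (Fin m) F} (h : S'.IsSymm) :
    (bsym s v S').IsSymm := by
  ext i j
  rw [Matrix.transpose_apply]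
  refine Fin.cases ?_ (fun i' => ?_) i <;> refine Fin.cases ?_ (fun j' => ?_) j <;> simp
  exact h.apply i' j'

/-- the element `[[1, bsym s v S'], [0, 1]]` of the Siegel radical -/
def qE (s : F) (v : Fin m → F) (S' : symAdd m F) : Sp (m + 1) F :=
  siegHom ⟨bsym s v S'.1, bsym_isSymm s v (mem_symAdd.1 S'.2)⟩

/-- the long root group `Z` -/
def zE (t : F) : Sp (m + 1) F := qE t 0 0

/-- the part `Y` of the Heisenberg group `H₁` inside the Siegel radical -/
def yE (v : Fin m → F) : Sp (m + 1) F := qE 0 v 0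

/-- the matrix `1 + e₀ xᵀ` (row `0` carries `x` in the columns `≥ 1`) -/
def browM (x : Fin m → F) : Matrix (Fin (m + 1)) (Fin (m + 1)) F :=
  Matrix.of fun i j => Fin.cases (Fin.cases 1 x j) (fun i' => Fin.cases 0 (fun j' => if i' = j' then 1 else 0) j) i

/-- the diagonal matrix `diag (u, 1, …, 1)` -/
def bdiagM (u : F) : Matrix (Fin (m + 1)) (Fin (m + 1)) F :=
  Matrix.of fun i j => Fin.cases (Fin.cases u (fun _ => 0) j) (fun i' => Fin.cases 0 (fun j' => if i' = j' then 1 else 0) j) i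

theorem browM_mul (x y : Fin m → F) : browM x * browM y = browM (x + y) := by
  ext i j
  rw [Matrix.mul_apply, Fin.sum_univ_succ]
  refine Fin.cases ?_ (fun i' => ?_) i <;> refine Fin.cases ?_ (fun j' => ?_) j <;>
    simp [browM, Finset.sum_ite_eq, Finset.sum_ite_eq', add_comm]

theorem browM_zero : browM (0 : Fin m → F) = 1 := by
  ext i j
  refine Fin.cases ?_ (fun i' => ?_) i <;> refine Fin.cases ?_ (fun j' => ?_) j <;>
    simp [browM, Matrix.one_apply, Fin.succ_ne_zero, Ne.symm (Fin.succ_ne_zero _)]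

theorem bdiagM_mul (u u' : F) : (bdiagM u : Matrix (Fin (m + 1)) (Fin (m + 1)) F) * bdiagM u' =
    bdiagM (u * u') := by
  ext i j
  rw [Matrix.mul_apply, Fin.sum_univ_succ]
  refine Fin.cases ?_ (fun i' => ?_) i <;> refine Fin.cases ?_ (fun j' => ?_) j <;>
    simp [bdiagM, Finset.sum_ite_eq, Finset.sum_ite_eq']

theorem bdiagM_one : (bdiagM 1 : Matrix (Fin (m + 1)) (Fin (m + 1)) F) = 1 := by
  ext i j
  refine Fin.cases ?_ (fun i' => ?_) i <;> refine Fin.cases ?_ (fun j' => ?_) j <;>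
    simp [bdiagM, Matrix.one_apply, Fin.succ_ne_zero, Ne.symm (Fin.succ_ne_zero _)]

/-- `1 + e₀ xᵀ` as an element of `GL` -/
def browGL (x : Fin m → F) : GL (Fin (m + 1)) F :=
  ⟨browM x, browM (-x), by rw [browM_mul, add_neg_cancel, browM_zero],
    by rw [browM_mul, neg_add_cancel, browM_zero]⟩

/-- `diag (u, 1, …, 1)` as an element of `GL` -/
def bdiagGL (u : Fˣ) : GL (Fin (m + 1)) F :=
  ⟨bdiagM (u : F), bdiagM ((u⁻¹ : Fˣ) : F), by rw [bdiagM_mul, Units.mul_inv, bdiagM_one],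
    by rw [bdiagM_mul, Units.inv_mul, bdiagM_one]⟩

/-- the part `X` of the Heisenberg group `H₁` inside the Levi subgroup of the Siegel parabolic -/
def xE (x : Fin m → F) : Sp (m + 1) F := lev (browGL x)

/-- the torus `T₁` of the first hyperbolic plane -/
def hT (u : Fˣ) : Sp (m + 1) F := lev (bdiagGL u)

/-- the Weyl element of the first hyperbolic plane -/
def wS : Sp (m + 1) F := ιS (SymplecticGroup.symJ (Fin 1) F)

/-- the long Weyl element of `Sp m`, inside `Sp (m+1)` -/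
def wG : Sp (m + 1) F := ιG (SymplecticGroup.symJ (Fin m) F)

/-- the general element `x y z` of the Heisenberg group `H₁` -/
def ηE (x v : Fin m → F) (t : F) : Sp (m + 1) F := xE x * yE v * zE t

variable [Fintype F]

/-- the stabiliser of the line spanned by the first basis vector -/
def P1 (m : ℕ) (F : Type u) [Field F] [Fintype F] : Subgroup (Sp (m + 1) F) where
  carrier := {g | ∀ i, i ≠ Sum.inl 0 → g.1 i (Sum.inl 0) = 0}
  one_mem' := by
    intro i hi
    show (1 : Matrix _ _ F) i (Sum.inl 0) = 0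
    rw [Matrix.one_apply, if_neg hi]
  mul_mem' := by
    intro a b ha hb i hi
    show (a.1 * b.1) i (Sum.inl 0) = 0
    rw [Matrix.mul_apply]
    apply Finset.sum_eq_zero
    intro k _
    by_cases hk : k = Sum.inl 0
    · rw [hk, ha i hi, zero_mul]
    · rw [hb k hk, mul_zero]
  inv_mem' := by
    intro a ha
    let S : Submonoid (Sp (m + 1) F) :=
      { carrier := {g | ∀ i, i ≠ Sum.inl 0 → g.1 i (Sum.inl 0) = 0}
        one_mem' := by
          intro i hi
          show (1 : Matrix _ _ F) i (Sum.inl 0) = 0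
          rw [Matrix.one_apply, if_neg hi]
        mul_mem' := by
          intro a b ha hb i hi
          show (a.1 * b.1) i (Sum.inl 0) = 0
          rw [Matrix.mul_apply]
          apply Finset.sum_eq_zero
          intro k _
          by_cases hk : k = Sum.inl 0
          · rw [hk, ha i hi, zero_mul]
          · rw [hb k hk, mul_zero] }
    have h1 : a ∈ S := ha
    have h2 : a⁻¹ = a ^ (orderOf a - 1) := by
      rw [eq_comm, ← mul_eq_one_iff_eq_inv, ← pow_succ,
        Nat.sub_add_cancel (orderOf_pos a), pow_orderOf_eq_one]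
    have h3 : a⁻¹ ∈ S := by
      rw [h2]
      exact S.pow_mem h1 _
    exact h3

theorem mem_P1 {g : Sp (m + 1) F} :
    g ∈ P1 m F ↔ ∀ i, i ≠ Sum.inl 0 → g.1 i (Sum.inl 0) = 0 := Iff.rfl

/-- the Borel subgroup of `Sp 1` -/
abbrev B1 (F : Type u) [Field F] [Fintype F] : Subgroup (Sp 1 F) := P1 0 F

/-- the `ψ (s ·)`-isotypic projection along the long root group `Z` -/
noncomputable def zproj (ψ : AddChar F ℂ) (s : F) (χ : Sp (m + 1) F → ℂ) : Sp (m + 1) F → ℂ :=
  isoAvg (zE (m := m) (F := F)) (fun t => ψ (s * t)) χ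

theorem zproj_apply (ψ : AddChar F ℂ) (s : F) (χ : Sp (m + 1) F → ℂ) (g : Sp (m + 1) F) :
    zproj ψ s χ g = (Fintype.card F : ℂ)⁻¹ * ∑ t : F, conj (ψ (s * t)) * χ (zE t * g) := rfl

end geom

end Cfsg.Agent.Lib.Helper2.WG
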