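import Mathlib
import Cfsg.Prelude
import Cfsg.Agent.Lib.Helper2.WG.Defs

set_option autoImplicit false

/-!
Second definitions file for S2524: parameters of a small character, the `Z`-isotypic parts
restricted to `Sp m`, the shape of the restriction to `Sp 1 × Sp m`, the statements `Struct`
and `Uniq` proved by the induction.
-/

namespace Cfsg.Agent.Lib.Helper2.WG

open Matrix Cfsg Cfsg.Agent.H9SpF Cfsg.Agent.Lib.Helper6.Siegel Cfsg.Agent.Lib.Helper1.SUMin
open scoped ComplexConjugate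

universe u

variable {F : Type u} [Field F] [Fintype F] {m : ℕ}

/-- the matrix unit `E₀₀` -/
def E00 (m : ℕ) (F : Type u) [Field F] : Matrix (Fin (m + 1)) (Fin (m + 1)) F :=
  vecMulVec (Pi.single 0 1) (Pi.single 0 1)

/-- the multiplicity of the rank one constituents of class `c` -/
noncomputable def bpar (ψ : AddChar F ℂ) (χ : Sp (m + 1) F → ℂ) (c : F) : ℂ :=
  qmult ψ χ (c • E00 m F)

/-- the `ψ (s ·)`-part of `χ` for the long root group, restricted to `Sp m` -/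
noncomputable def chis (ψ : AddChar F ℂ) (s : F) (χ : Sp (m + 1) F → ℂ) : Sp m F → ℂ :=
  fun g => zproj ψ s χ (ιG g)

/-- the two possible shapes of the restriction to `Sp 1 × Sp m` (per square class) -/
def Tfun (t : Bool) (E O : Sp 1 F → ℂ) (E' O' : Sp m F → ℂ) : Sp 1 F × Sp m F → ℂ :=
  fun p => if t then E p.1 * E' p.2 + O p.1 * O' p.2 else E p.1 * O' p.2 + O p.1 * E' p.2

/-- the long root element of `Sp 1` -/
def z1 (t : F) : Sp 1 F := zE (m := 0) t

/-- the torus of `Sp 1` -/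
def h1 (u : Fˣ) : Sp 1 F := hT (m := 0) u

/-- structure of the small irreducible characters of `Sp n` -/
def Struct (ψ : AddChar F ℂ) (n : ℕ) : Prop :=
  ∀ χ : Sp n F → ℂ, IsIrrCharacter (Sp n F) χ → χ ≠ (fun _ => 1) → QSmall ψ χ →
    ∃ c : F, c ≠ 0 ∧ PureSmall ψ c χ ∧ (∀ w : Fin n → F, w ≠ 0 → qmult ψ χ (c • vecMulVec w w) = 1) ∧
      (qmult ψ χ 0 = 0 ∨ qmult ψ χ 0 = 1)

/-- uniqueness of the small irreducible characters of `Sp n` with given parameters -/
def Uniq (ψ : AddChar F ℂ) (n : ℕ) : Prop :=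
  ∀ χ χ' : Sp n F → ℂ, IsIrrCharacter (Sp n F) χ → IsIrrCharacter (Sp n F) χ' →
    QSmall ψ χ → QSmall ψ χ' →
    (∃ M : Matrix (Fin n) (Fin n) F, M.IsSymm ∧ M ≠ 0 ∧ qmult ψ χ M ≠ 0 ∧ qmult ψ χ' M ≠ 0) →
    qmult ψ χ 0 = qmult ψ χ' 0 → χ = χ'

end Cfsg.Agent.Lib.Helper2.WG
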