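import Mathlib
import Cfsg.Prelude
import Cfsg.Agent.Lib.Helper2.WG.Defs2

set_option autoImplicit false

/-!
Third definitions file for S2524: `Fintype` instances for the parabolic, the fixed-space dimension
`fixdim`, and the two homomorphisms used in the amalgam `Sp (m+1) = ⟨ιK (Sp 1 × Sp m), P1⟩`.
-/

namespace Cfsg.Agent.Lib.Helper2.WG

open Matrix Cfsg Cfsg.Agent.H9SpF Cfsg.Agent.Lib.Helper6.Siegel Cfsg.Agent.Lib.Helper1.SUMin
open scoped ComplexConjugate

universe u

variable {F : Type u} [Field F] [Fintype F] {m : ℕ}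

noncomputable instance p1Fintype : Fintype (P1 m F) := Fintype.ofFinite _

/-- the dimension of the fixed space of `H` in a representation with character `χ` -/
noncomputable def fixdim {Γ : Type*} [Group Γ] (H : Subgroup Γ) [Fintype H] (χ : Γ → ℂ) : ℂ :=
  (Fintype.card H : ℂ)⁻¹ * ∑ h : H, χ (h : Γ)

/-- `B₁ × Sp m → Sp 1 × Sp m` -/
def jB : B1 F × Sp m F →* Sp 1 F × Sp m F :=
  MonoidHom.prodMap (B1 F).subtype (MonoidHom.id (Sp m F))

theorem jB_apply (a : B1 F × Sp m F) : jB a = ((a.1 : Sp 1 F), a.2) := rfl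

end Cfsg.Agent.Lib.Helper2.WG
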