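import Mathlib
import Cfsg.Prelude
import Cfsg.Agent.Lib.Helper2.WG.Defs3

set_option autoImplicit false

/-!
Small shared lemmas for the assembly of S2524: square classes of a finite field of odd order,
rank one matrices, distinctness of the four Weil characters.
-/

namespace Cfsg.Agent.Lib.Helper2.WG.Bas

open Matrix Cfsg Cfsg.Agent.H9SpF Cfsg.Agent.Lib.Helper6.Siegel Cfsg.Agent.Lib.Helper1.SUMin
open scoped ComplexConjugate

universe u

variable {F : Type u} [Field F] [Fintype F]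

theorem ringChar_ne_two (hodd : Odd (Fintype.card F)) : ringChar F ≠ 2 := by
  intro h
  have := FiniteField.even_card_of_char_two h
  exact (Nat.not_even_iff_odd.2 hodd) (Nat.even_iff.2 this)

theorem two_ne_zero_of_odd' (hodd : Odd (Fintype.card F)) : (2 : F) ≠ 0 := by
  intro h
  apply ringChar_ne_two hodd
  have hp : (ringChar F) ∣ 2 := by
    apply (ringChar.spec F 2).1
    exact_mod_cast h
  have hprime := CharP.char_is_prime F (ringChar F)
  exact (Nat.prime_dvd_prime_iff_eq hprime Nat.prime_two).1 hp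

theorem exists_nonsquare' (hodd : Odd (Fintype.card F)) : ∃ ν : F, ¬ IsSquare ν :=
  FiniteField.exists_nonsquare (ringChar_ne_two hodd)

omit [Fintype F] in
theorem ne_zero_of_not_isSquare {ν : F} (hν : ¬ IsSquare ν) : ν ≠ 0 := by
  rintro rfl
  exact hν ⟨0, by simp⟩

theorem exists_addChar_ne_one' : ∃ ψ : AddChar F ℂ, ψ ≠ 1 := by
  obtain ⟨ψ, hψ⟩ := (AddChar.exists_apply_ne_zero (α := F) (a := 1)).mpr one_ne_zero
  exact ⟨ψ, fun h => hψ (by rw [h]; rfl)⟩

/-- the two square classes of a finite field of odd order -/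
theorem sq_class_cases (hodd : Odd (Fintype.card F)) (ν : F) (hν : ¬ IsSquare ν) (c : F)
    (hc : c ≠ 0) : ∃ u : F, u ≠ 0 ∧ (c = 1 * u ^ 2 ∨ c = ν * u ^ 2) := by
  classical
  have hν0 : ν ≠ 0 := ne_zero_of_not_isSquare hν
  by_cases hsq : IsSquare c
  · obtain ⟨r, hr⟩ := hsq
    have hr0 : r ≠ 0 := by
      rintro rfl
      apply hc
      rw [hr, mul_zero]
    exact ⟨r, hr0, Or.inl (by rw [hr]; ring)⟩
  · have h1 : quadraticChar F c = -1 := quadraticChar_neg_one_iff_not_isSquare.2 hsq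
    have h3 : quadraticChar F ν = -1 := quadraticChar_neg_one_iff_not_isSquare.2 hν
    have h4 : quadraticChar F (c * ν) = 1 := by
      rw [map_mul, h1, h3]
      norm_num
    have h5 : IsSquare (c * ν) := (quadraticChar_one_iff_isSquare (mul_ne_zero hc hν0)).1 h4
    obtain ⟨r, hr⟩ := h5
    have hr0 : r ≠ 0 := by
      rintro rfl
      apply mul_ne_zero hc hν0
      rw [hr, mul_zero]
    refine ⟨r / ν, div_ne_zero hr0 hν0, Or.inr ?_⟩
    field_simp
    rw [hr]
    ring

omit [Fintype F] in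
/-- rank one matrices: scaling the vector -/
theorem smul_vecMulVec_sq {n : ℕ} (c u : F) (w : Fin n → F) :
    (c * u ^ 2) • vecMulVec w w = c • vecMulVec (u • w) (u • w) := by
  ext i j
  simp only [Matrix.smul_apply, vecMulVec_apply, Pi.smul_apply, smul_eq_mul]
  ring

omit [Fintype F] in
theorem smul_vecMulVec_isSymm {n : ℕ} (c : F) (w : Fin n → F) : (c • vecMulVec w w).IsSymm := by
  ext i j
  simp only [Matrix.transpose_apply, Matrix.smul_apply, vecMulVec_apply, smul_eq_mul]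
  ring

omit [Fintype F] in
theorem smul_vecMulVec_zero {n : ℕ} (c : F) :
    c • vecMulVec (0 : Fin n → F) (0 : Fin n → F) = 0 := by
  ext i j
  simp

/-- `E₀₀` is not in the class of a nonsquare -/
theorem not_exists_class (m : ℕ) (ν : F) (hν : ¬ IsSquare ν) :
    ¬ ∃ w' : Fin (m + 1) → F, (1 : F) • vecMulVec (Pi.single 0 1 : Fin (m + 1) → F) (Pi.single 0 1) =
      ν • vecMulVec w' w' := by
  rintro ⟨w', h⟩
  have h00 := congrFun (congrFun h 0) 0
  simp only [Matrix.smul_apply, vecMulVec_apply, smul_eq_mul, Pi.single_eq_same, mul_one] at h00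
  have hw'0 : w' 0 ≠ 0 := by
    intro h0
    rw [h0] at h00
    simp at h00
  apply hν
  refine ⟨(w' 0)⁻¹, ?_⟩
  field_simp
  rw [h00]
  ring

/-- `ν E₀₀` is not in the class of `1` -/
theorem not_exists_class' (m : ℕ) (ν : F) (hν : ¬ IsSquare ν) :
    ¬ ∃ w' : Fin (m + 1) → F, ν • vecMulVec (Pi.single 0 1 : Fin (m + 1) → F) (Pi.single 0 1) =
      (1 : F) • vecMulVec w' w' := by
  rintro ⟨w', h⟩
  have h00 := congrFun (congrFun h 0) 0
  simp only [Matrix.smul_apply, vecMulVec_apply, smul_eq_mul, Pi.single_eq_same, mul_one,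
    one_mul] at h00
  apply hν
  exact ⟨w' 0, h00⟩

omit [Fintype F] in
theorem single_ne_zero (m : ℕ) : (Pi.single 0 1 : Fin (m + 1) → F) ≠ 0 := by
  intro h
  have := congrFun h 0
  simp at this

/-- the four Weil characters are pairwise different -/
theorem weil_distinct (n : ℕ) (hn : 1 ≤ n) (ψ : AddChar F ℂ) (ν : F) (hν : ¬ IsSquare ν)
    {E₁ O₁ Eν Oν : Sp n F → ℂ} {ε₁ εν : ℂ}
    (w1 : IsWeilPair ψ 1 E₁ O₁ ε₁) (wν : IsWeilPair ψ ν Eν Oν εν) :
    E₁ ≠ O₁ ∧ Eν ≠ Oν ∧ E₁ ≠ Eν ∧ E₁ ≠ Oν ∧ O₁ ≠ Eν ∧ O₁ ≠ Oν := by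
  obtain ⟨m, rfl⟩ : ∃ m, n = m + 1 := ⟨n - 1, by omega⟩
  set w : Fin (m + 1) → F := Pi.single 0 1 with hw
  have hw0 : w ≠ 0 := single_ne_zero m
  have hno := not_exists_class m ν hν
  have hE0 : ∀ {c : F} {E O : Sp (m + 1) F → ℂ} {ε : ℂ}, IsWeilPair ψ c E O ε → qmult ψ E 0 = 1 := by
    intro c E O ε h
    have := h.qE_one 0
    rwa [smul_vecMulVec_zero] at this
  refine ⟨?_, ?_, ?_, ?_, ?_, ?_⟩
  · intro h
    have h1 := hE0 w1
    rw [h, w1.qO_origin] at h1
    exact zero_ne_one h1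
  · intro h
    have h1 := hE0 wν
    rw [h, wν.qO_origin] at h1
    exact zero_ne_one h1
  · intro h
    have h1 := w1.qE_one w
    rw [h, wν.qE_zero _ (smul_vecMulVec_isSymm 1 w) hno] at h1
    exact zero_ne_one h1
  · intro h
    have h1 := w1.qE_one w
    rw [h, wν.qO_zero _ (smul_vecMulVec_isSymm 1 w) hno] at h1
    exact zero_ne_one h1
  · intro h
    have h1 := w1.qO_one w hw0
    rw [h, wν.qE_zero _ (smul_vecMulVec_isSymm 1 w) hno] at h1
    exact zero_ne_one h1
  · intro h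
    have h1 := w1.qO_one w hw0
    rw [h, wν.qO_zero _ (smul_vecMulVec_isSymm 1 w) hno] at h1
    exact zero_ne_one h1

end Cfsg.Agent.Lib.Helper2.WG.Bas
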