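import Mathlib
import Cfsg.Prelude
import Cfsg.Agent.S0188
import Cfsg.Agent.Lib.Helper4.Characters
import Cfsg.Agent.Lib.Helper1.CharFound6

set_option autoImplicit false

/-!
PK-K5 of S2524, generic part: expansion of a class function on a direct product in products of
irreducible characters, and extraction of coefficients.
-/

namespace Cfsg.Agent.Lib.Helper2.WG.PkK5

open Cfsg Cfsg.Agent.Lib.Helper1 Cfsg.Agent.Lib.Helper4 Cfsg.Agent.S0188
open scoped ComplexConjugate

universe u

variable {A B : Type u} [Group A] [Group B] [Fintype A] [Fintype B]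

/-- the outer product of two functions -/
def oprod (α : A → ℂ) (β : B → ℂ) : A × B → ℂ := fun p => α p.1 * β p.2

theorem oprod_apply (α : A → ℂ) (β : B → ℂ) (p : A × B) : oprod α β p = α p.1 * β p.2 := rfl

theorem classInner_oprod (α α' : A → ℂ) (β β' : B → ℂ) :
    classInner (oprod α β) (oprod α' β') = classInner α α' * classInner β β' :=
  classInner_prod α α' β β'

theorem isIrr_oprod {α : A → ℂ} {β : B → ℂ} (hα : IsIrrCharacter A α) (hβ : IsIrrCharacter B β) :
    IsIrrCharacter (A × B) (oprod α β) := isIrrCharacter_prod hα hβ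

theorem classInner_oprod_irr {α α' : A → ℂ} {β β' : B → ℂ} (hα : IsIrrCharacter A α)
    (hα' : IsIrrCharacter A α') (hβ : IsIrrCharacter B β) (hβ' : IsIrrCharacter B β') :
    classInner (oprod α β) (oprod α' β') = if α = α' ∧ β = β' then 1 else 0 := by
  classical
  rw [classInner_oprod, classInner_irr hα hα', classInner_irr hβ hβ']
  by_cases h1 : α = α' <;> by_cases h2 : β = β' <;> simp [h1, h2]

variable [Fintype (IrrCharacter A)] [Fintype (IrrCharacter B)]

/-- expansion of a class function of `A × B` in products of irreducible characters -/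
theorem prod_expansion {Θ : A × B → ℂ} (hΘ : IsClassFunction (A × B) Θ) :
    Θ = ∑ α : IrrCharacter A, ∑ β : IrrCharacter B,
      classInner Θ (oprod (α : A → ℂ) (β : B → ℂ)) • oprod (α : A → ℂ) (β : B → ℂ) := by
  classical
  rw [← sub_eq_zero]
  apply eq_zero_of_orth_prod
  · apply isClassFunction_sub hΘ
    apply isClassFunction_sum
    intro α _
    apply isClassFunction_sum
    intro β _
    exact isClassFunction_smul _ (isClassFunction_irr (isIrr_oprod α.2 β.2))
  · intro φ ψ hφ hψ
    show classInner _ (oprod φ ψ) = 0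
    rw [classInner_sub_left, classInner_sum_left, sub_eq_zero]
    rw [Finset.sum_eq_single (⟨φ, hφ⟩ : IrrCharacter A)]
    · rw [classInner_sum_left, Finset.sum_eq_single (⟨ψ, hψ⟩ : IrrCharacter B)]
      · rw [classInner_smul_left, classInner_oprod_irr hφ hφ hψ hψ]
        simp
      · intro β _ hβ
        rw [classInner_smul_left, classInner_oprod_irr hφ hφ β.2 hψ, if_neg, mul_zero]
        rintro ⟨-, h⟩
        exact hβ (Subtype.ext h)
      · intro h
        exact absurd (Finset.mem_univ _) h
    · intro α _ hα
      rw [classInner_sum_left]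
      apply Finset.sum_eq_zero
      intro β _
      rw [classInner_smul_left, classInner_oprod_irr α.2 hφ β.2 hψ, if_neg, mul_zero]
      rintro ⟨h, -⟩
      exact hα (Subtype.ext h)
    · intro h
      exact absurd (Finset.mem_univ _) h

theorem prod_expansion_apply {Θ : A × B → ℂ} (hΘ : IsClassFunction (A × B) Θ) (a : A) (b : B) :
    Θ (a, b) = ∑ α : IrrCharacter A, ∑ β : IrrCharacter B,
      classInner Θ (oprod (α : A → ℂ) (β : B → ℂ)) * ((α : A → ℂ) a * (β : B → ℂ) b) := by
  conv_lhs => rw [prod_expansion hΘ]
  rw [Finset.sum_apply]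
  refine Finset.sum_congr rfl fun α _ => ?_
  rw [Finset.sum_apply]
  refine Finset.sum_congr rfl fun β _ => ?_
  rfl

end Cfsg.Agent.Lib.Helper2.WG.PkK5
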