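import Mathlib
import Cfsg.Agent.Lib.Helper7.WG_K2
import Cfsg.Agent.Lib.Helper7.WG_K4
import Cfsg.Agent.Lib.Helper2.WG.K5a
import Cfsg.Agent.Lib.Helper2.WG.Basic
import Cfsg.Agent.Lib.Helper1.CharFound7
import Cfsg.Agent.Lib.Helper2.S3T12
import Cfsg.Agent.Lib.Helper5.SL2Gauss
import Cfsg.Agent.S0161

set_option autoImplicit false

namespace Cfsg.Agent.Lib.Helper2.WG

open Matrix Cfsg Cfsg.Agent.H9SpF Cfsg.Agent.Lib.Helper6.Siegel Cfsg.Agent.Lib.Helper1.SUMin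
open Cfsg.Agent.Lib.Helper1 Cfsg.Agent.Lib.Helper4 Cfsg.Agent.Lib.Helper2.WG.Bas
open scoped ComplexConjugate

universe u

variable {F : Type u} [Field F] [Fintype F] {m : ℕ}

namespace PkK5

/-- the `1 × 1` matrix `(s)` -/
def of1 (s : F) : Matrix (Fin 1) (Fin 1) F := Matrix.of fun _ _ => s

theorem of1_isSymm (s : F) : (of1 s).IsSymm := by
  ext i j
  rfl

theorem eq_of1 (M : Matrix (Fin 1) (Fin 1) F) : M = of1 (M 0 0) := by
  ext i j
  have hi : i = 0 := Subsingleton.elim _ _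
  have hj : j = 0 := Subsingleton.elim _ _
  subst hi; subst hj; rfl

theorem of1_eq_smul (c u : F) : of1 (c * u ^ 2) = c • vecMulVec (fun _ : Fin 1 => u) (fun _ => u) := by
  ext i j
  simp only [of1, Matrix.of_apply, Matrix.smul_apply, vecMulVec_apply, smul_eq_mul]
  ring

theorem of1_zero : of1 (0 : F) = 0 := by
  ext i j
  rfl

/-- the multiplicity of `ψ (s ·)` on the root group of `Sp 1` -/
noncomputable def q1 (ψ : AddChar F ℂ) (α : Sp 1 F → ℂ) (s : F) : ℂ := qmult ψ α (of1 s)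

theorem q1_eq (ψ : AddChar F ℂ) (α : Sp 1 F → ℂ) (s : F) :
    q1 ψ α s = (Fintype.card F : ℂ)⁻¹ * ∑ t : F, conj (ψ (s * t)) * α (z1 t) := by
  unfold q1
  rw [qmult_def]
  have hcard : Fintype.card (symAdd 1 F) = Fintype.card F :=
    (Fintype.card_congr (sym1Equiv (F := F)).toEquiv).symm
  rw [hcard]
  congr 1
  rw [← Equiv.sum_comp (sym1Equiv (F := F)).toEquiv]
  refine Finset.sum_congr rfl fun t _ => ?_
  have h1 : trChar ψ (of1 s) (sym1Equiv t) = ψ (s * t) := by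
    rw [trChar_apply, trPair_apply]
    congr 1
    simp only [Matrix.trace, Matrix.mul_apply, of1, Matrix.diag_apply, Finset.univ_unique,
      Fin.default_eq_zero, Finset.sum_singleton, Matrix.of_apply]
    rfl
  have h2 : siegHom ((sym1Equiv (F := F)).toEquiv t) = z1 t := siegHom_sym1Equiv t
  rw [h2]
  congr 2

noncomputable instance irrFintype (n : ℕ) : Fintype (IrrCharacter (Sp n F)) := Fintype.ofFinite _

/-- the restriction to `Sp 1 × Sp m` -/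
def Th (χ : Sp (m + 1) F → ℂ) : Sp 1 F × Sp m F → ℂ := fun p => χ (ιK p)

theorem isCharacter_Th {χ : Sp (m + 1) F → ℂ} (hχ : IsCharacter (Sp (m + 1) F) χ) :
    IsCharacter (Sp 1 F × Sp m F) (Th χ) := isCharacter_comp_hom hχ ιK

/-- the multiplicity of `α ⊗ β` in the restriction -/
noncomputable def mult (χ : Sp (m + 1) F → ℂ) (α : Sp 1 F → ℂ) (β : Sp m F → ℂ) : ℂ :=
  classInner (Th χ) (oprod α β)

theorem mult_nat {χ : Sp (m + 1) F → ℂ} (hχ : IsCharacter (Sp (m + 1) F) χ)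
    {α : Sp 1 F → ℂ} (hα : IsIrrCharacter (Sp 1 F) α) {β : Sp m F → ℂ}
    (hβ : IsIrrCharacter (Sp m F) β) : ∃ k : ℕ, mult χ α β = k :=
  classInner_char_irr_nat (isCharacter_Th hχ) (isIrr_oprod hα hβ)

theorem Th_expand {χ : Sp (m + 1) F → ℂ} (hχ : IsCharacter (Sp (m + 1) F) χ) (a : Sp 1 F)
    (g : Sp m F) :
    χ (ιK (a, g)) = ∑ α : IrrCharacter (Sp 1 F), ∑ β : IrrCharacter (Sp m F),
      mult χ α β * ((α : Sp 1 F → ℂ) a * (β : Sp m F → ℂ) g) :=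
  prod_expansion_apply (isClassFunction_of_isCharacter (isCharacter_Th hχ)) a g

theorem chis_expand (ψ : AddChar F ℂ) {χ : Sp (m + 1) F → ℂ} (hχ : IsCharacter (Sp (m + 1) F) χ)
    (s : F) (g : Sp m F) :
    chis ψ s χ g = ∑ α : IrrCharacter (Sp 1 F), ∑ β : IrrCharacter (Sp m F),
      mult χ α β * (q1 ψ α s * (β : Sp m F → ℂ) g) := by
  show zproj ψ s χ (ιG g) = _
  rw [zproj_apply]
  have h1 : ∀ t : F, χ (zE t * ιG g) = ∑ α : IrrCharacter (Sp 1 F), ∑ β : IrrCharacter (Sp m F),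
      mult χ α β * ((α : Sp 1 F → ℂ) (z1 t) * (β : Sp m F → ℂ) g) := by
    intro t
    rw [← ιS_z1, ← ιK_eq_mul, Th_expand hχ]
  simp_rw [h1, q1_eq]
  rw [Finset.mul_sum]
  simp_rw [Finset.mul_sum]
  rw [Finset.sum_comm]
  refine Finset.sum_congr rfl fun α _ => ?_
  rw [Finset.sum_comm]
  refine Finset.sum_congr rfl fun β _ => ?_
  rw [Finset.sum_mul, Finset.mul_sum]
  refine Finset.sum_congr rfl fun t _ => ?_
  ring

theorem chis_eq_sum (ψ : AddChar F ℂ) {χ : Sp (m + 1) F → ℂ} (hχ : IsCharacter (Sp (m + 1) F) χ)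
    (s : F) :
    chis ψ s χ = ∑ α : IrrCharacter (Sp 1 F), ∑ β : IrrCharacter (Sp m F),
      (mult χ α β * q1 ψ α s) • (β : Sp m F → ℂ) := by
  funext g
  rw [chis_expand ψ hχ s g, Finset.sum_apply]
  refine Finset.sum_congr rfl fun α _ => ?_
  rw [Finset.sum_apply]
  refine Finset.sum_congr rfl fun β _ => ?_
  rw [Pi.smul_apply, smul_eq_mul]
  ring

/-- the multiplicities of the `Z`-parts -/
theorem chis_inner (ψ : AddChar F ℂ) {χ : Sp (m + 1) F → ℂ} (hχ : IsCharacter (Sp (m + 1) F) χ)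
    (s : F) {β₀ : Sp m F → ℂ} (hβ₀ : IsIrrCharacter (Sp m F) β₀) :
    classInner (chis ψ s χ) β₀ = ∑ α : IrrCharacter (Sp 1 F), mult χ α β₀ * q1 ψ α s := by
  classical
  rw [chis_eq_sum ψ hχ s, classInner_sum_left]
  refine Finset.sum_congr rfl fun α _ => ?_
  rw [classInner_sum_left, Finset.sum_eq_single (⟨β₀, hβ₀⟩ : IrrCharacter (Sp m F))]
  · rw [classInner_smul_left, classInner_irr_self hβ₀, mul_one]
  · intro β _ hβ
    rw [classInner_smul_left, classInner_irr_ne β.2 hβ₀, mul_zero]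
    intro h
    exact hβ (Subtype.ext h)
  · intro h
    exact absurd (Finset.mem_univ _) h

/-- the multiplicity of the trivial character of `Sp 1` -/
theorem ιS_inner {χ : Sp (m + 1) F → ℂ} (hχ : IsCharacter (Sp (m + 1) F) χ) :
    classInner (fun a : Sp 1 F => χ (ιS a)) (fun _ => 1) =
      ∑ β : IrrCharacter (Sp m F), mult χ (fun _ => 1) β * (β : Sp m F → ℂ) 1 := by
  classical
  have h1 : (fun a : Sp 1 F => χ (ιS a)) = ∑ α : IrrCharacter (Sp 1 F),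
      ∑ β : IrrCharacter (Sp m F), (mult χ α β * (β : Sp m F → ℂ) 1) • (α : Sp 1 F → ℂ) := by
    funext a
    rw [ιS_apply, Th_expand hχ, Finset.sum_apply]
    refine Finset.sum_congr rfl fun α _ => ?_
    rw [Finset.sum_apply]
    refine Finset.sum_congr rfl fun β _ => ?_
    rw [Pi.smul_apply, smul_eq_mul]
    ring
  have hone : IsIrrCharacter (Sp 1 F) (fun _ => (1 : ℂ)) := Cfsg.Agent.S0161.isIrrCharacter_one
  rw [h1, classInner_sum_left, Finset.sum_eq_single (⟨fun _ => 1, hone⟩ : IrrCharacter (Sp 1 F))]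
  · rw [classInner_sum_left]
    refine Finset.sum_congr rfl fun β _ => ?_
    rw [classInner_smul_left, classInner_irr_self hone, mul_one]
  · intro α _ hα
    rw [classInner_sum_left]
    apply Finset.sum_eq_zero
    intro β _
    rw [classInner_smul_left, classInner_irr_ne α.2 hone, mul_zero]
    intro h
    exact hα (Subtype.ext h)
  · intro h
    exact absurd (Finset.mem_univ _) h

/-- a vanishing sum of natural numbers -/
theorem sum_nat_eq_zero {ι : Type*} [Fintype ι] (f : ι → ℂ) (hf : ∀ i, ∃ k : ℕ, f i = k)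
    (h : ∑ i, f i = 0) (i : ι) : f i = 0 := by
  choose k hk using hf
  have h1 : ((∑ i, k i : ℕ) : ℂ) = 0 := by
    rw [Nat.cast_sum, ← h]
    exact Finset.sum_congr rfl fun i _ => (hk i).symm
  have h2 : ∑ i, k i = 0 := by exact_mod_cast h1
  have h3 := (Finset.sum_eq_zero_iff.1 h2) i (Finset.mem_univ i)
  rw [hk i, h3, Nat.cast_zero]

theorem nat_mul_nat {a b : ℂ} (ha : ∃ k : ℕ, a = k) (hb : ∃ k : ℕ, b = k) : ∃ k : ℕ, a * b = k := by
  obtain ⟨k, rfl⟩ := ha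
  obtain ⟨l, rfl⟩ := hb
  exact ⟨k * l, by push_cast; ring⟩

theorem q1_nat (ψ : AddChar F ℂ) {α : Sp 1 F → ℂ} (hα : IsIrrCharacter (Sp 1 F) α) (s : F) :
    ∃ k : ℕ, q1 ψ α s = k := qmult_nat ψ (isCharacter_of_irr hα) _

/-- step (iii): the trivial character of `Sp 1` does not occur -/
theorem mult_one_left (h2 : (2 : F) ≠ 0) (ψ : AddChar F ℂ) (hψ : ψ ≠ 1) {χ : Sp (m + 1) F → ℂ}
    (hχ : IsIrrCharacter (Sp (m + 1) F) χ) (hne : χ ≠ fun _ => 1) (hs : QSmall ψ χ)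
    {β : Sp m F → ℂ} (hβ : IsIrrCharacter (Sp m F) β) : mult χ (fun _ => 1) β = 0 := by
  have hχc := isCharacter_of_irr hχ
  have hone : IsIrrCharacter (Sp 1 F) (fun _ => (1 : ℂ)) := Cfsg.Agent.S0161.isIrrCharacter_one
  have h0 := no_ιS_fixed h2 ψ hψ hχ hne hs
  rw [ιS_inner hχc] at h0
  have h1 := sum_nat_eq_zero _ (fun β' : IrrCharacter (Sp m F) =>
    nat_mul_nat (mult_nat hχc hone β'.2) (isCharacter_apply_one (isCharacter_of_irr β'.2))) h0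
    ⟨β, hβ⟩
  rcases mul_eq_zero.1 h1 with h | h
  · exact h
  · exact absurd h (irr_apply_one_ne_zero hβ)

/-- step (iv): a nontrivial irreducible character of `Sp 1` is nontrivial on the root group -/
theorem exists_q1_ne_zero (h2 : (2 : F) ≠ 0) (ψ : AddChar F ℂ) (hψ : ψ ≠ 1) {α : Sp 1 F → ℂ}
    (hα : IsIrrCharacter (Sp 1 F) α) (hne : α ≠ fun _ => 1) : ∃ s : F, s ≠ 0 ∧ q1 ψ α s ≠ 0 := by
  by_contra hcon
  push Not at hcon
  apply hne
  apply eq_one_of_qmult h2 ψ hψ le_rfl hα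
  intro M hM hM0
  rw [eq_of1 M]
  apply hcon
  intro h0
  apply hM0
  rw [eq_of1 M, h0, of1_zero]

open Classical in
/-- step (ii): the multiplicities of the `Z`-parts, from `chis_eq_weil` -/
theorem chis_inner_weil (hodd : Odd (Fintype.card F)) (ψ : AddChar F ℂ) (hψ : ψ ≠ 1) (hm : 1 ≤ m)
    (hmc : Classif (F := F) ψ m) {c : F} (hc : c ≠ 0) {E' O' : Sp m F → ℂ} {ε' : ℂ}
    (w' : IsWeilPair ψ c E' O' ε') {χ : Sp (m + 1) F → ℂ} (hχ : IsCharacter (Sp (m + 1) F) χ)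
    (hs : QSmall ψ χ) (s u : F) (hu : u ≠ 0) (hsu : s = c * u ^ 2) :
    ∃ b : ℕ, bpar ψ χ s = b ∧ ∀ β₀ : Sp m F → ℂ, IsIrrCharacter (Sp m F) β₀ →
      classInner (chis ψ s χ) β₀ = (b : ℂ) * ((if β₀ = E' then 1 else 0) + (if β₀ = O' then 1 else 0)) := by
  obtain ⟨b, hb, hch⟩ := chis_eq_weil hodd ψ hψ hm hmc hc w' hχ hs s u hu hsu
  refine ⟨b, hb, fun β₀ hβ₀ => ?_⟩
  have h1 : chis ψ s χ = (b : ℂ) • E' + (b : ℂ) • O' := by
    rw [hch]
    funext g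
    simp only [Pi.add_apply, Pi.smul_apply, smul_eq_mul]
    ring
  rw [h1, classInner_add_left, classInner_smul_left, classInner_smul_left,
    classInner_irr w'.irrE hβ₀, classInner_irr w'.irrO hβ₀]
  have e1 : (E' = β₀) = (β₀ = E') := propext eq_comm
  have e2 : (O' = β₀) = (β₀ = O') := propext eq_comm
  simp only [e1, e2]
  ring

open Classical in
/-- steps (iv), (v): the support of the multiplicities, one class at a time -/
theorem support_class (hodd : Odd (Fintype.card F)) (h2 : (2 : F) ≠ 0) (ψ : AddChar F ℂ)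
    (hψ : ψ ≠ 1) (hm : 1 ≤ m) (h1 : Classif (F := F) ψ 1) (hmc : Classif (F := F) ψ m)
    {c d : F} (hc : c ≠ 0) (hd : d ≠ 0)
    (hcls : ∀ s : F, s ≠ 0 → (∃ u, u ≠ 0 ∧ s = c * u ^ 2) ∨ (∃ u, u ≠ 0 ∧ s = d * u ^ 2))
    {E O : Sp 1 F → ℂ} {ε : ℂ} (w : IsWeilPair ψ c E O ε)
    {E' O' : Sp m F → ℂ} {ε' : ℂ} (w' : IsWeilPair ψ c E' O' ε')
    {D' P' : Sp m F → ℂ} {δ' : ℂ} (v' : IsWeilPair ψ d D' P' δ')
    (hdist : E' ≠ D' ∧ E' ≠ P' ∧ O' ≠ D' ∧ O' ≠ P')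
    {χ : Sp (m + 1) F → ℂ} (hχ : IsIrrCharacter (Sp (m + 1) F) χ) (hne : χ ≠ fun _ => 1)
    (hs : QSmall ψ χ) {α : Sp 1 F → ℂ} (hα : IsIrrCharacter (Sp 1 F) α) {β : Sp m F → ℂ}
    (hβ : IsIrrCharacter (Sp m F) β) (hmult : mult χ α β ≠ 0) (s₀ u₀ : F) (hu₀ : u₀ ≠ 0)
    (hs₀ : s₀ = c * u₀ ^ 2) (hq : q1 ψ α s₀ ≠ 0) :
    (β = E' ∨ β = O') ∧ (α = E ∨ α = O) := by
  have hχc := isCharacter_of_irr hχ
  obtain ⟨b, -, hF⟩ := chis_inner_weil hodd ψ hψ hm hmc hc w' hχc hs s₀ u₀ hu₀ hs₀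
  have hβ' : β = E' ∨ β = O' := by
    by_contra hcon
    push Not at hcon
    have h3 := hF β hβ
    rw [if_neg hcon.1, if_neg hcon.2, add_zero, mul_zero, chis_inner ψ hχc s₀ hβ] at h3
    have h0 := sum_nat_eq_zero _ (fun α' : IrrCharacter (Sp 1 F) =>
      nat_mul_nat (mult_nat hχc α'.2 hβ) (q1_nat ψ α'.2 s₀)) h3 ⟨α, hα⟩
    exact (mul_ne_zero hmult hq) h0
  have hαne : α ≠ fun _ => 1 := by
    rintro rfl
    exact hmult (mult_one_left h2 ψ hψ hχ hne hs hβ)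
  have hpure : PureSmall ψ c α := by
    intro M hM hqM
    rw [eq_of1 M] at hqM ⊢
    by_cases hs0 : M 0 0 = 0
    · refine ⟨0, ?_⟩
      rw [hs0, of1_zero]
      ext i j
      simp
    rcases hcls (M 0 0) hs0 with ⟨u, hu, hsu⟩ | ⟨u, hu, hsu⟩
    · exact ⟨fun _ => u, by rw [hsu, of1_eq_smul]⟩
    · exfalso
      obtain ⟨b', -, hF'⟩ := chis_inner_weil hodd ψ hψ hm hmc hd v' hχc hs (M 0 0) u hu hsu
      have h3 := hF' β hβ
      have hn1 : β ≠ D' := by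
        rcases hβ' with h | h <;> rw [h]
        · exact hdist.1
        · exact hdist.2.2.1
      have hn2 : β ≠ P' := by
        rcases hβ' with h | h <;> rw [h]
        · exact hdist.2.1
        · exact hdist.2.2.2
      rw [if_neg hn1, if_neg hn2, add_zero, mul_zero, chis_inner ψ hχc (M 0 0) hβ] at h3
      have h0 := sum_nat_eq_zero _ (fun α' : IrrCharacter (Sp 1 F) =>
        nat_mul_nat (mult_nat hχc α'.2 hβ) (q1_nat ψ α'.2 (M 0 0))) h3 ⟨α, hα⟩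
      rcases mul_eq_zero.1 h0 with h | h
      · exact hmult h
      · exact hqM h
  rcases h1 c hc E O ε w α hα hpure with h | h | h
  · exact absurd h hαne
  · exact ⟨hβ', Or.inl h⟩
  · exact ⟨hβ', Or.inr h⟩

/-- the support of the multiplicities -/
theorem mult_support (hodd : Odd (Fintype.card F)) (ψ : AddChar F ℂ) (hψ : ψ ≠ 1) (hm : 1 ≤ m)
    (ν : F) (hν : ¬ IsSquare ν) (h1 : Classif (F := F) ψ 1) (hmc : Classif (F := F) ψ m)
    {E₁ O₁ Eν Oν : Sp 1 F → ℂ} {ε₁ εν : ℂ}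
    (w1 : IsWeilPair ψ 1 E₁ O₁ ε₁) (wν : IsWeilPair ψ ν Eν Oν εν)
    {E₁' O₁' Eν' Oν' : Sp m F → ℂ} {ε₁' εν' : ℂ}
    (w1' : IsWeilPair ψ 1 E₁' O₁' ε₁') (wν' : IsWeilPair ψ ν Eν' Oν' εν')
    {χ : Sp (m + 1) F → ℂ} (hχ : IsIrrCharacter (Sp (m + 1) F) χ) (hne : χ ≠ fun _ => 1)
    (hs : QSmall ψ χ) {α : Sp 1 F → ℂ} (hα : IsIrrCharacter (Sp 1 F) α) {β : Sp m F → ℂ}
    (hβ : IsIrrCharacter (Sp m F) β) (hmult : mult χ α β ≠ 0) :
    ((β = E₁' ∨ β = O₁') ∧ (α = E₁ ∨ α = O₁)) ∨ ((β = Eν' ∨ β = Oν') ∧ (α = Eν ∨ α = Oν)) := by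
  have h2 := two_ne_zero_of_odd' hodd
  have hν0 := ne_zero_of_not_isSquare hν
  obtain ⟨d1, d2, d3, d4, d5, d6⟩ := weil_distinct m hm ψ ν hν w1' wν'
  have hαne : α ≠ fun _ => 1 := by
    rintro rfl
    exact hmult (mult_one_left h2 ψ hψ hχ hne hs hβ)
  obtain ⟨s₀, hs₀, hq⟩ := exists_q1_ne_zero h2 ψ hψ hα hαne
  have hcls : ∀ s : F, s ≠ 0 → (∃ u, u ≠ 0 ∧ s = 1 * u ^ 2) ∨ (∃ u, u ≠ 0 ∧ s = ν * u ^ 2) := by
    intro s hs
    obtain ⟨u, hu, h | h⟩ := sq_class_cases hodd ν hν s hs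
    · exact Or.inl ⟨u, hu, h⟩
    · exact Or.inr ⟨u, hu, h⟩
  rcases hcls s₀ hs₀ with ⟨u₀, hu₀, hsu⟩ | ⟨u₀, hu₀, hsu⟩
  · left
    exact support_class hodd h2 ψ hψ hm h1 hmc one_ne_zero hν0 hcls w1 w1' wν'
      ⟨d3, d4, d5, d6⟩ hχ hne hs hα hβ hmult s₀ u₀ hu₀ hsu hq
  · right
    exact support_class hodd h2 ψ hψ hm h1 hmc hν0 one_ne_zero (fun s hs => (hcls s hs).symm)
      wν wν' w1' ⟨d3.symm, d5.symm, d4.symm, d6.symm⟩ hχ hne hs hα hβ hmult s₀ u₀ hu₀ hsu hq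

end PkK5

end Cfsg.Agent.Lib.Helper2.WG
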