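import Mathlib
import Cfsg.Agent.Lib.Helper2.WG.K5b

set_option autoImplicit false

namespace Cfsg.Agent.Lib.Helper2.WG

open Matrix Cfsg Cfsg.Agent.H9SpF Cfsg.Agent.Lib.Helper6.Siegel Cfsg.Agent.Lib.Helper1.SUMin
open Cfsg.Agent.Lib.Helper1 Cfsg.Agent.Lib.Helper4 Cfsg.Agent.Lib.Helper2.WG.Bas
open scoped ComplexConjugate

universe u

variable {F : Type u} [Field F] [Fintype F] {m : ℕ}

namespace PkK5

/-! ### sums supported on few points -/

theorem sum_eq_pair' {ι : Type*} [Fintype ι] {V : Type*} [AddCommMonoid V] (f : ι → V) (a b : ι)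
    (hab : a ≠ b) (h : ∀ i, i ≠ a → i ≠ b → f i = 0) : ∑ i, f i = f a + f b := by
  classical
  rw [← Finset.sum_pair hab]
  symm
  apply Finset.sum_subset (Finset.subset_univ _)
  intro i _ hi
  simp only [Finset.mem_insert, Finset.mem_singleton, not_or] at hi
  exact h i hi.1 hi.2

theorem sum_eq_four {ι : Type*} [Fintype ι] {V : Type*} [AddCommMonoid V] (f : ι → V)
    (a b c d : ι) (hab : a ≠ b) (hac : a ≠ c) (had : a ≠ d) (hbc : b ≠ c) (hbd : b ≠ d)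
    (hcd : c ≠ d) (h : ∀ i, i ≠ a → i ≠ b → i ≠ c → i ≠ d → f i = 0) :
    ∑ i, f i = f a + f b + (f c + f d) := by
  classical
  have h1 : ∑ i ∈ ({a, b, c, d} : Finset ι), f i = f a + f b + (f c + f d) := by
    rw [Finset.sum_insert, Finset.sum_insert, Finset.sum_pair hcd, add_assoc]
    · simp only [Finset.mem_insert, Finset.mem_singleton, not_or]
      exact ⟨hbc, hbd⟩
    · simp only [Finset.mem_insert, Finset.mem_singleton, not_or]
      exact ⟨hab, hac, had⟩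
  rw [← h1]
  symm
  apply Finset.sum_subset (Finset.subset_univ _)
  intro i _ hi
  simp only [Finset.mem_insert, Finset.mem_singleton, not_or] at hi
  exact h i hi.1 hi.2.1 hi.2.2.1 hi.2.2.2

/-! ### the values of `q1` on Weil characters -/

theorem q1_E_sq (ψ : AddChar F ℂ) {c : F} {E O : Sp 1 F → ℂ} {ε : ℂ} (w : IsWeilPair ψ c E O ε)
    (u : F) : q1 ψ E (c * u ^ 2) = 1 := by
  unfold q1
  rw [of1_eq_smul]
  exact w.qE_one _

theorem q1_O_sq (ψ : AddChar F ℂ) {c : F} {E O : Sp 1 F → ℂ} {ε : ℂ} (w : IsWeilPair ψ c E O ε)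
    (u : F) (hu : u ≠ 0) : q1 ψ O (c * u ^ 2) = 1 := by
  unfold q1
  rw [of1_eq_smul]
  exact w.qO_one _ (fun h => hu (congrFun h 0))

theorem q1_E_zero (ψ : AddChar F ℂ) {c : F} {E O : Sp 1 F → ℂ} {ε : ℂ}
    (w : IsWeilPair ψ c E O ε) : q1 ψ E 0 = 1 := by
  have h := q1_E_sq ψ w 0
  have h0 : c * (0 : F) ^ 2 = 0 := by ring
  rwa [h0] at h

theorem q1_O_zero (ψ : AddChar F ℂ) {c : F} {E O : Sp 1 F → ℂ} {ε : ℂ}
    (w : IsWeilPair ψ c E O ε) : q1 ψ O 0 = 0 := by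
  unfold q1
  rw [of1_zero]
  exact w.qO_origin

/-! ### the central sign -/

theorem negS_one_mem_center (n : ℕ) : (negS 1 : Sp n F) ∈ Subgroup.center (Sp n F) := by
  rw [Subgroup.mem_center_iff]
  intro g
  exact (negS_one_comm g).symm

theorem exists_central_sign {n : ℕ} {χ : Sp n F → ℂ} (hχ : IsIrrCharacter (Sp n F) χ) :
    ∃ εχ : ℂ, (εχ = 1 ∨ εχ = -1) ∧ ∀ g, χ (negS g) = εχ * χ g := by
  have hz := negS_one_mem_center (F := F) n
  have h1 := Cfsg.Agent.Lib.Helper2.S3T.irr_central_invol_sq hχ hz negS_one_mul_self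
  have h0 := irr_apply_one_ne_zero hχ
  refine ⟨χ (negS 1) / χ 1, ?_, fun g => ?_⟩
  · apply mul_self_eq_one_iff.1
    rw [div_mul_div_comm, h1, div_self (mul_ne_zero h0 h0)]
  · rw [negS_eq_mul g]
    exact Cfsg.Agent.Lib.Helper5.irr_central_mul hχ hz g

theorem ιK_negS (a : Sp 1 F) (g : Sp m F) :
    (ιK (negS a, negS g) : Sp (m + 1) F) = negS (ιK (a, g)) := by
  rw [negS_eq_mul (ιK (a, g)), negS_one_eq_ιK (m := m), ← map_mul, negS_eq_mul a, negS_eq_mul g]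
  rfl

theorem mult_sign {χ : Sp (m + 1) F → ℂ} {α : Sp 1 F → ℂ} {β : Sp m F → ℂ} {εχ zα zβ : ℂ}
    (hzα : zα = 1 ∨ zα = -1) (hzβ : zβ = 1 ∨ zβ = -1)
    (hχn : ∀ g, χ (negS g) = εχ * χ g) (hαn : ∀ a, α (negS a) = zα * α a)
    (hβn : ∀ g, β (negS g) = zβ * β g) (hmult : mult χ α β ≠ 0) : εχ = zα * zβ := by
  have hconj : conj (zα * zβ) = zα * zβ := by
    rcases hzα with rfl | rfl <;> rcases hzβ with rfl | rfl <;> simp
  have hsum : ∑ p : Sp 1 F × Sp m F, Th χ p * conj (oprod α β p) =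
      ∑ p : Sp 1 F × Sp m F, εχ * (zα * zβ) * (Th χ p * conj (oprod α β p)) := by
    rw [← Equiv.sum_comp (Equiv.mulLeft ((negS 1, negS 1) : Sp 1 F × Sp m F))
      (fun p => Th χ p * conj (oprod α β p))]
    refine Finset.sum_congr rfl fun p => fun _ => ?_
    obtain ⟨a, g⟩ := p
    have e1 : (Equiv.mulLeft ((negS 1, negS 1) : Sp 1 F × Sp m F)) (a, g) = (negS a, negS g) := by
      show ((negS 1 : Sp 1 F) * a, (negS 1 : Sp m F) * g) = _
      rw [← negS_eq_mul, ← negS_eq_mul]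
    rw [e1]
    show χ (ιK (negS a, negS g)) * conj (α (negS a) * β (negS g)) = _
    rw [ιK_negS, hχn, hαn, hβn]
    have e2 : zα * α a * (zβ * β g) = (zα * zβ) * (α a * β g) := by ring
    rw [e2, map_mul, hconj]
    show _ = εχ * (zα * zβ) * (χ (ιK (a, g)) * conj (α a * β g))
    ring
  have h1 : mult χ α β = εχ * (zα * zβ) * mult χ α β := by
    unfold mult classInner
    conv_lhs => rw [hsum, ← Finset.mul_sum]
    ring
  have h2 : (1 - εχ * (zα * zβ)) * mult χ α β = 0 := by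
    rw [sub_mul, one_mul, ← h1, sub_self]
  rcases mul_eq_zero.1 h2 with h | h
  · have h3 : εχ * (zα * zβ) = 1 := (sub_eq_zero.1 h).symm
    have h4 : (zα * zβ) * (zα * zβ) = 1 := by
      rcases hzα with rfl | rfl <;> rcases hzβ with rfl | rfl <;> norm_num
    calc εχ = εχ * ((zα * zβ) * (zα * zβ)) := by rw [h4, mul_one]
      _ = (εχ * (zα * zβ)) * (zα * zβ) := by ring
      _ = zα * zβ := by rw [h3, one_mul]
  · exact absurd h hmult

/-! ### the eight possible constituents -/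

/-- the context: two Weil pairs of `Sp 1`, two Weil pairs of `Sp m`, and the support of the
multiplicities of `χ` -/
structure Ctx (ψ : AddChar F ℂ) (c d : F) (E O D P : Sp 1 F → ℂ) (ε δ : ℂ)
    (E' O' D' P' : Sp m F → ℂ) (ε' δ' : ℂ) (χ : Sp (m + 1) F → ℂ) : Prop where
  w : IsWeilPair ψ c E O ε
  w' : IsWeilPair ψ c E' O' ε'
  v : IsWeilPair ψ d D P δ
  v' : IsWeilPair ψ d D' P' δ'
  dist : E ≠ O ∧ D ≠ P ∧ E ≠ D ∧ E ≠ P ∧ O ≠ D ∧ O ≠ P
  dist' : E' ≠ O' ∧ D' ≠ P' ∧ E' ≠ D' ∧ E' ≠ P' ∧ O' ≠ D' ∧ O' ≠ P'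
  supp : ∀ (α : Sp 1 F → ℂ) (β : Sp m F → ℂ), IsIrrCharacter (Sp 1 F) α → IsIrrCharacter (Sp m F) β →
    mult χ α β ≠ 0 →
      ((β = E' ∨ β = O') ∧ (α = E ∨ α = O)) ∨ ((β = D' ∨ β = P') ∧ (α = D ∨ α = P))

section ctx

variable {ψ : AddChar F ℂ} {c d : F} {E O D P : Sp 1 F → ℂ} {ε δ : ℂ}
  {E' O' D' P' : Sp m F → ℂ} {ε' δ' : ℂ} {χ : Sp (m + 1) F → ℂ}

theorem Ctx.symm (h : Ctx ψ c d E O D P ε δ E' O' D' P' ε' δ' χ) :
    Ctx ψ d c D P E O δ ε D' P' E' O' δ' ε' χ where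
  w := h.v
  w' := h.v'
  v := h.w
  v' := h.w'
  dist := ⟨h.dist.2.1, h.dist.1, h.dist.2.2.1.symm, h.dist.2.2.2.2.1.symm, h.dist.2.2.2.1.symm,
    h.dist.2.2.2.2.2.symm⟩
  dist' := ⟨h.dist'.2.1, h.dist'.1, h.dist'.2.2.1.symm, h.dist'.2.2.2.2.1.symm,
    h.dist'.2.2.2.1.symm, h.dist'.2.2.2.2.2.symm⟩
  supp := fun α β hα hβ hm => (h.supp α β hα hβ hm).symm

/-- the inner sum, for `α` of class `c` -/
theorem Ctx.inner_sum (h : Ctx ψ c d E O D P ε δ E' O' D' P' ε' δ' χ) {V : Type*} [AddCommGroup V]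
    [Module ℂ V] (Φ : (Sp m F → ℂ) → V) {α : Sp 1 F → ℂ} (hα : IsIrrCharacter (Sp 1 F) α)
    (hαD : α ≠ D) (hαP : α ≠ P) :
    ∑ β : IrrCharacter (Sp m F), mult χ α β • Φ β = mult χ α E' • Φ E' + mult χ α O' • Φ O' := by
  rw [sum_eq_pair' (fun β : IrrCharacter (Sp m F) => mult χ α β • Φ β) ⟨E', h.w'.irrE⟩
    ⟨O', h.w'.irrO⟩ (fun hh => h.dist'.1 (congrArg Subtype.val hh))]
  intro β hβE hβO
  have h0 : mult χ α β = 0 := by
    by_contra hne
    rcases h.supp α β hα β.2 hne with ⟨h1 | h1, -⟩ | ⟨-, h1 | h1⟩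
    · exact hβE (Subtype.ext h1)
    · exact hβO (Subtype.ext h1)
    · exact hαD h1
    · exact hαP h1
  show mult χ α β • Φ β = 0
  rw [h0, zero_smul]

/-- the expansion over the eight possible constituents -/
theorem Ctx.expand8 (h : Ctx ψ c d E O D P ε δ E' O' D' P' ε' δ' χ) {V : Type*} [AddCommGroup V]
    [Module ℂ V] (Φ : (Sp 1 F → ℂ) → (Sp m F → ℂ) → V) :
    ∑ α : IrrCharacter (Sp 1 F), ∑ β : IrrCharacter (Sp m F), mult χ α β • Φ α β =
      (mult χ E E' • Φ E E' + mult χ E O' • Φ E O') + (mult χ O E' • Φ O E' + mult χ O O' • Φ O O') +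
      ((mult χ D D' • Φ D D' + mult χ D P' • Φ D P') + (mult χ P D' • Φ P D' + mult χ P P' • Φ P P')) := by
  obtain ⟨d1, d2, d3, d4, d5, d6⟩ := h.dist
  rw [sum_eq_four (fun α : IrrCharacter (Sp 1 F) => ∑ β : IrrCharacter (Sp m F),
      mult χ α β • Φ α β) ⟨E, h.w.irrE⟩ ⟨O, h.w.irrO⟩ ⟨D, h.v.irrE⟩ ⟨P, h.v.irrO⟩
    (fun hh => d1 (congrArg Subtype.val hh)) (fun hh => d3 (congrArg Subtype.val hh))
    (fun hh => d4 (congrArg Subtype.val hh)) (fun hh => d5 (congrArg Subtype.val hh))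
    (fun hh => d6 (congrArg Subtype.val hh)) (fun hh => d2 (congrArg Subtype.val hh))]
  · show (∑ β : IrrCharacter (Sp m F), mult χ E β • Φ E β) +
      (∑ β : IrrCharacter (Sp m F), mult χ O β • Φ O β) +
      ((∑ β : IrrCharacter (Sp m F), mult χ D β • Φ D β) +
      (∑ β : IrrCharacter (Sp m F), mult χ P β • Φ P β)) = _
    rw [h.inner_sum (Φ E) h.w.irrE d3 d4, h.inner_sum (Φ O) h.w.irrO d5 d6,
      h.symm.inner_sum (Φ D) h.v.irrE d3.symm d5.symm,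
      h.symm.inner_sum (Φ P) h.v.irrO d4.symm d6.symm]
  · intro α hαE hαO hαD hαP
    apply Finset.sum_eq_zero
    intro β _
    have h0 : mult χ α β = 0 := by
      by_contra hne
      rcases h.supp α β α.2 β.2 hne with ⟨-, h1 | h1⟩ | ⟨-, h1 | h1⟩
      · exact hαE (Subtype.ext h1)
      · exact hαO (Subtype.ext h1)
      · exact hαD (Subtype.ext h1)
      · exact hαP (Subtype.ext h1)
    rw [h0, zero_smul]

/-- the multiplicities of the four constituents of class `c` -/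
theorem Ctx.class_data (h : Ctx ψ c d E O D P ε δ E' O' D' P' ε' δ' χ)
    (hodd : Odd (Fintype.card F)) (hψ : ψ ≠ 1) (hm : 1 ≤ m) (hmc : Classif (F := F) ψ m)
    (hc : c ≠ 0) (hχ : IsCharacter (Sp (m + 1) F) χ) (hs : QSmall ψ χ) {εχ : ℂ}
    (hχn : ∀ g, χ (negS g) = εχ * χ g) :
    ∃ (b : ℕ) (t : Bool), bpar ψ χ c = b ∧
      mult χ E E' = (if t then (b : ℂ) else 0) ∧ mult χ O O' = (if t then (b : ℂ) else 0) ∧
      mult χ E O' = (if t then 0 else (b : ℂ)) ∧ mult χ O E' = (if t then 0 else (b : ℂ)) := by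
  obtain ⟨d1, d2, d3, d4, d5, d6⟩ := h.dist
  obtain ⟨d1', d2', d3', d4', d5', d6'⟩ := h.dist'
  obtain ⟨b, hb, hF⟩ := chis_inner_weil hodd ψ hψ hm hmc hc h.w' hχ hs c 1 one_ne_zero
    (by rw [one_pow, mul_one])
  have hc1 : c * (1 : F) ^ 2 = c := by rw [one_pow, mul_one]
  have hqE : q1 ψ E c = 1 := by
    have := q1_E_sq ψ h.w 1
    rwa [hc1] at this
  have hqO : q1 ψ O c = 1 := by
    have := q1_O_sq ψ h.w 1 one_ne_zero
    rwa [hc1] at this
  -- the two sum rules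
  have key : ∀ β₀ : Sp m F → ℂ, IsIrrCharacter (Sp m F) β₀ → (β₀ = E' ∨ β₀ = O') →
      classInner (chis ψ c χ) β₀ = mult χ E β₀ + mult χ O β₀ := by
    intro β₀ hβ₀ hcase
    rw [chis_inner ψ hχ c hβ₀, sum_eq_pair' (fun α : IrrCharacter (Sp 1 F) =>
      mult χ α β₀ * q1 ψ α c) ⟨E, h.w.irrE⟩ ⟨O, h.w.irrO⟩ (fun hh => d1 (congrArg Subtype.val hh))]
    · show mult χ E β₀ * q1 ψ E c + mult χ O β₀ * q1 ψ O c = _
      rw [hqE, hqO, mul_one, mul_one]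
    · intro α hαE hαO
      have h0 : mult χ α β₀ = 0 := by
        by_contra hne
        rcases h.supp α β₀ α.2 hβ₀ hne with ⟨-, h1 | h1⟩ | ⟨h1 | h1, -⟩
        · exact hαE (Subtype.ext h1)
        · exact hαO (Subtype.ext h1)
        · rcases hcase with h2 | h2
          · exact d3' (h2.symm.trans h1)
          · exact d5' (h2.symm.trans h1)
        · rcases hcase with h2 | h2
          · exact d4' (h2.symm.trans h1)
          · exact d6' (h2.symm.trans h1)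
      show mult χ α β₀ * q1 ψ α c = 0
      rw [h0, zero_mul]
  have hE := hF E' h.w'.irrE
  rw [if_pos rfl, if_neg d1', add_zero, mul_one, key E' h.w'.irrE (Or.inl rfl)] at hE
  have hO := hF O' h.w'.irrO
  rw [if_neg (Ne.symm d1'), if_pos rfl, zero_add, mul_one, key O' h.w'.irrO (Or.inr rfl)] at hO
  -- the signs
  have sε := h.w.sign
  have sε' := h.w'.sign
  have sεn : -ε = 1 ∨ -ε = -1 := by
    rcases sε with h1 | h1
    · right; rw [h1]
    · left; rw [h1, neg_neg]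
  have sεn' : -ε' = 1 ∨ -ε' = -1 := by
    rcases sε' with h1 | h1
    · right; rw [h1]
    · left; rw [h1, neg_neg]
  have hne0 : ε * ε' ≠ 0 := by
    rcases sε with h1 | h1 <;> rcases sε' with h2 | h2 <;> rw [h1, h2] <;> norm_num
  by_cases hcase : εχ = ε * ε'
  · have hp' : mult χ E O' = 0 := by
      by_contra hne
      have h1 := mult_sign sε sεn' hχn h.w.negE h.w'.negO hne
      rw [hcase] at h1
      apply hne0
      linear_combination (1 / 2 : ℂ) * h1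
    have hr' : mult χ O E' = 0 := by
      by_contra hne
      have h1 := mult_sign sεn sε' hχn h.w.negO h.w'.negE hne
      rw [hcase] at h1
      apply hne0
      linear_combination (1 / 2 : ℂ) * h1
    refine ⟨b, true, hb, ?_, ?_, ?_, ?_⟩
    · rw [hr', add_zero] at hE
      simpa using hE
    · rw [hp', zero_add] at hO
      simpa using hO
    · simpa using hp'
    · simpa using hr'
  · have hp : mult χ E E' = 0 := by
      by_contra hne
      exact hcase (mult_sign sε sε' hχn h.w.negE h.w'.negE hne)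
    have hr : mult χ O O' = 0 := by
      by_contra hne
      have h1 := mult_sign sεn sεn' hχn h.w.negO h.w'.negO hne
      apply hcase
      rw [h1]
      ring
    refine ⟨b, false, hb, ?_, ?_, ?_, ?_⟩
    · simpa using hp
    · simpa using hr
    · rw [hr, add_zero] at hO
      simpa using hO
    · rw [hp, zero_add] at hE
      simpa using hE

end ctx

/-- PK-K5 : the restriction of a small irreducible character to `Sp 1 × Sp m` -/
theorem K_structure' (hodd : Odd (Fintype.card F)) (ψ : AddChar F ℂ) (hψ : ψ ≠ 1) (hm : 1 ≤ m)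
    (ν : F) (hν : ¬ IsSquare ν) (h1 : Classif (F := F) ψ 1) (hmc : Classif (F := F) ψ m)
    {E₁ O₁ Eν Oν : Sp 1 F → ℂ} {ε₁ εν : ℂ}
    (w1 : IsWeilPair ψ 1 E₁ O₁ ε₁) (wν : IsWeilPair ψ ν Eν Oν εν)
    {E₁' O₁' Eν' Oν' : Sp m F → ℂ} {ε₁' εν' : ℂ}
    (w1' : IsWeilPair ψ 1 E₁' O₁' ε₁') (wν' : IsWeilPair ψ ν Eν' Oν' εν')
    {χ : Sp (m + 1) F → ℂ} (hχ : IsIrrCharacter (Sp (m + 1) F) χ) (hne : χ ≠ fun _ => 1)
    (hs : QSmall ψ χ) :
    ∃ (b₁ bν : ℕ) (t₁ tν : Bool), bpar ψ χ 1 = b₁ ∧ bpar ψ χ ν = bν ∧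
      qmult ψ χ 0 = (if t₁ then (b₁ : ℂ) else 0) + (if tν then (bν : ℂ) else 0) ∧
      ∀ p : Sp 1 F × Sp m F, χ (ιK p) =
        (b₁ : ℂ) * Tfun t₁ E₁ O₁ E₁' O₁' p + (bν : ℂ) * Tfun tν Eν Oν Eν' Oν' p := by
  have h2 := two_ne_zero_of_odd' hodd
  have hν0 := ne_zero_of_not_isSquare hν
  have hχc := isCharacter_of_irr hχ
  have ctx : Ctx ψ 1 ν E₁ O₁ Eν Oν ε₁ εν E₁' O₁' Eν' Oν' ε₁' εν' χ :=
    { w := w1, w' := w1', v := wν, v' := wν'
      dist := weil_distinct 1 le_rfl ψ ν hν w1 wν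
      dist' := weil_distinct m hm ψ ν hν w1' wν'
      supp := fun α β hα hβ hmult =>
        mult_support hodd ψ hψ hm ν hν h1 hmc w1 wν w1' wν' hχ hne hs hα hβ hmult }
  obtain ⟨εχ, -, hχn⟩ := exists_central_sign hχ
  obtain ⟨b₁, t₁, hb₁, hp₁, hr₁, hp₁', hr₁'⟩ :=
    ctx.class_data hodd hψ hm hmc one_ne_zero hχc hs hχn
  obtain ⟨bν, tν, hbν, hpν, hrν, hpν', hrν'⟩ :=
    ctx.symm.class_data hodd hψ hm hmc hν0 hχc hs hχn
  refine ⟨b₁, bν, t₁, tν, hb₁, hbν, ?_, ?_⟩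
  · rw [← chis_zero_origin h2 ψ hψ hχc hs, chis_eq_sum ψ hχc 0, qmult_sum]
    simp_rw [qmult_sum, qmult_smul, mul_assoc]
    have h8 := ctx.expand8 (V := ℂ) (fun α β => q1 ψ α 0 * qmult ψ β 0)
    simp only [smul_eq_mul] at h8
    rw [h8, q1_E_zero ψ w1, q1_O_zero ψ w1, q1_E_zero ψ wν, q1_O_zero ψ wν, hp₁, hpν]
    have e1 : qmult ψ E₁' 0 = 1 := by
      have := w1'.qE_one 0
      rwa [smul_vecMulVec_zero] at this
    have eν : qmult ψ Eν' 0 = 1 := by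
      have := wν'.qE_one 0
      rwa [smul_vecMulVec_zero] at this
    rw [e1, eν, w1'.qO_origin, wν'.qO_origin]
    ring
  · rintro ⟨a, g⟩
    rw [Th_expand hχc a g]
    have h8 := ctx.expand8 (V := ℂ) (fun α β => α a * β g)
    simp only [smul_eq_mul] at h8
    rw [h8, hp₁, hr₁, hp₁', hr₁', hpν, hrν, hpν', hrν']
    cases t₁ <;> cases tν <;> simp [Tfun] <;> ring

end PkK5

/-- PK-K5 : the restriction of a small irreducible character to `Sp 1 × Sp m` -/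
theorem K_structure (hodd : Odd (Fintype.card F)) (ψ : AddChar F ℂ) (hψ : ψ ≠ 1) (hm : 1 ≤ m)
    (ν : F) (hν : ¬ IsSquare ν) (h1 : Classif (F := F) ψ 1) (hmc : Classif (F := F) ψ m)
    {E₁ O₁ Eν Oν : Sp 1 F → ℂ} {ε₁ εν : ℂ}
    (w1 : IsWeilPair ψ 1 E₁ O₁ ε₁) (wν : IsWeilPair ψ ν Eν Oν εν)
    {E₁' O₁' Eν' Oν' : Sp m F → ℂ} {ε₁' εν' : ℂ}
    (w1' : IsWeilPair ψ 1 E₁' O₁' ε₁') (wν' : IsWeilPair ψ ν Eν' Oν' εν')
    {χ : Sp (m + 1) F → ℂ} (hχ : IsIrrCharacter (Sp (m + 1) F) χ) (hne : χ ≠ fun _ => 1)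
    (hs : QSmall ψ χ) :
    ∃ (b₁ bν : ℕ) (t₁ tν : Bool), bpar ψ χ 1 = b₁ ∧ bpar ψ χ ν = bν ∧
      qmult ψ χ 0 = (if t₁ then (b₁ : ℂ) else 0) + (if tν then (bν : ℂ) else 0) ∧
      ∀ p : Sp 1 F × Sp m F, χ (ιK p) =
        (b₁ : ℂ) * Tfun t₁ E₁ O₁ E₁' O₁' p + (bν : ℂ) * Tfun tν Eν Oν Eν' Oν' p :=
  PkK5.K_structure' hodd ψ hψ hm ν hν h1 hmc w1 wν w1' wν' hχ hne hs

end Cfsg.Agent.Lib.Helper2.WG
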