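import Mathlib
import Cfsg.Prelude
import Cfsg.Agent.Lib.Helper2.WG.Defs3

set_option autoImplicit false

/-!
Fourth definitions file for S2524 (package PK-PB): the product `χ_s · conj χ'_s` of the `Z`-parts of
two functions on `Sp (m+1)`.
-/

namespace Cfsg.Agent.Lib.Helper2.WG

open Matrix Cfsg Cfsg.Agent.H9SpF Cfsg.Agent.Lib.Helper6.Siegel Cfsg.Agent.Lib.Helper1.SUMin
open scoped ComplexConjugate

universe u

variable {F : Type u} [Field F] [Fintype F] {m : ℕ}

/-- the product `χ_s · conj χ'_s` of the `ψ (s ·)`-parts of `χ` and `χ'` along `Z` -/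
noncomputable def Dz (ψ : AddChar F ℂ) (s : F) (χ χ' : Sp (m + 1) F → ℂ) : Sp (m + 1) F → ℂ :=
  fun p => zproj ψ s χ p * conj (zproj ψ s χ' p)

theorem Dz_apply (ψ : AddChar F ℂ) (s : F) (χ χ' : Sp (m + 1) F → ℂ) (p : Sp (m + 1) F) :
    Dz ψ s χ χ' p = zproj ψ s χ p * conj (zproj ψ s χ' p) := rfl

end Cfsg.Agent.Lib.Helper2.WG
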