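import Mathlib
import Cfsg.Agent.Lib.Helper2.WG.Defs4
import Cfsg.Agent.Lib.Helper1.WG_F2
import Cfsg.Agent.Lib.Helper7.WG_R3

set_option autoImplicit false

/-!
S2524, package PB-Z: orthogonality along the long root group `Z`, and the invariance of the `Z`-parts of
a class function under the centraliser of `Z`.
-/

namespace Cfsg.Agent.Lib.Helper2.WG

open Matrix Cfsg Cfsg.Agent.H9SpF Cfsg.Agent.Lib.Helper6.Siegel Cfsg.Agent.Lib.Helper1.SUMin
open scoped ComplexConjugate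

universe u

variable {F : Type u} [Field F] [Fintype F] {m : ℕ}

theorem ηE_zero : (ηE (0 : Fin m → F) 0 0 : Sp (m + 1) F) = 1 := by
  unfold ηE yE zE
  rw [xE_zero, qE_zero, one_mul, one_mul]

theorem ηE_eq_zE_mul (x v : Fin m → F) (t : F) :
    (ηE x v t : Sp (m + 1) F) = zE t * ηE x v 0 := by
  rw [zE_comm_ηE]
  unfold ηE
  rw [PkF2.zE_zero, mul_one]

theorem Dz_zE_mul (ψ : AddChar F ℂ) (s : F) (χ χ' : Sp (m + 1) F → ℂ) (t : F)
    (g₀ : Sp (m + 1) F) : Dz ψ s χ χ' (zE t * g₀) = Dz ψ s χ χ' g₀ := by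
  unfold Dz
  rw [zproj_zE_mul, zproj_zE_mul, map_mul (starRingEnd ℂ)]
  have h := PkF2.conj_psi_mul_psi ψ (s * t)
  calc ψ (s * t) * zproj ψ s χ g₀ * (conj (ψ (s * t)) * conj (zproj ψ s χ' g₀))
      = (conj (ψ (s * t)) * ψ (s * t)) * (zproj ψ s χ g₀ * conj (zproj ψ s χ' g₀)) := by ring
    _ = zproj ψ s χ g₀ * conj (zproj ψ s χ' g₀) := by rw [h, one_mul]

/-- the `Z`-parts of a class function are invariant under conjugation by the centraliser of `Z` -/
theorem zproj_conj_of_comm (ψ : AddChar F ℂ) (s : F) {χ : Sp (m + 1) F → ℂ}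
    (hχ : IsClassFunction (Sp (m + 1) F) χ) (a : Sp (m + 1) F) (ha : ∀ t, a * zE t = zE t * a)
    (p : Sp (m + 1) F) : zproj ψ s χ (a * p * a⁻¹) = zproj ψ s χ p := by
  rw [zproj_apply, zproj_apply]
  congr 1
  refine Finset.sum_congr rfl fun t _ => ?_
  congr 1
  have h1 : zE t * (a * p * a⁻¹) = a * (zE t * p) * a⁻¹ := by
    rw [← mul_assoc, ← mul_assoc, ← ha t]
    simp only [mul_assoc]
  rw [h1, hχ]

theorem Zorth (ψ : AddChar F ℂ) (hψ : ψ ≠ 1) (χ χ' : Sp (m + 1) F → ℂ) (g₀ : Sp (m + 1) F) :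
    ∑ t : F, χ (zE t * g₀) * conj (χ' (zE t * g₀)) =
      (Fintype.card F : ℂ) * ∑ s : F, Dz ψ s χ χ' g₀ := by
  classical
  have h1 : ∀ (φ : Sp (m + 1) F → ℂ) (t : F),
      φ (zE t * g₀) = ∑ s : F, ψ (s * t) * zproj ψ s φ g₀ := by
    intro φ t
    rw [← sum_zproj ψ hψ φ (zE t * g₀)]
    exact Finset.sum_congr rfl fun s _ => zproj_zE_mul ψ s φ t g₀
  have h2 : ∀ t : F, χ (zE t * g₀) * conj (χ' (zE t * g₀)) =
      ∑ s : F, ∑ s' : F, ψ ((s - s') * t) * (zproj ψ s χ g₀ * conj (zproj ψ s' χ' g₀)) := by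
    intro t
    rw [h1 χ t, h1 χ' t, map_sum, Finset.sum_mul_sum]
    refine Finset.sum_congr rfl fun s _ => ?_
    refine Finset.sum_congr rfl fun s' _ => ?_
    rw [map_mul (starRingEnd ℂ), ← AddChar.map_neg_eq_conj]
    have e : ψ ((s - s') * t) = ψ (s * t) * ψ (-(s' * t)) := by
      rw [← AddChar.map_add_eq_mul]
      congr 1
      ring
    rw [e]
    ring
  simp_rw [h2]
  rw [Finset.sum_comm]
  rw [Finset.mul_sum]
  refine Finset.sum_congr rfl fun s _ => ?_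
  rw [Finset.sum_comm]
  simp_rw [← Finset.sum_mul, PkF2.sum_mulShift ψ hψ]
  rw [Finset.sum_eq_single s]
  · rw [if_pos (sub_self s)]
    rfl
  · intro s' _ hs'
    rw [if_neg (fun h => hs' (sub_eq_zero.1 h).symm), zero_mul]
  · intro h
    exact absurd (Finset.mem_univ _) h

end Cfsg.Agent.Lib.Helper2.WG
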