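import Mathlib
import Cfsg.Agent.Lib.Helper2.WG.PBZ
import Cfsg.Agent.Lib.Helper5.WG_R4
import Cfsg.Agent.Lib.Helper1.WG_F3
import Cfsg.Agent.Lib.Helper7.WG_K2a
import Cfsg.Agent.Lib.Lead.WG_PBP
import Cfsg.Agent.Lib.Helper8.WG_PBT
import Cfsg.Agent.Lib.Helper8.WG_PBJ
import Cfsg.Agent.Lib.Helper2.WG.Basic
import Cfsg.Agent.Lib.Helper2.WG.K5c

set_option autoImplicit false

/-!
S2524, package PK-PB: the assembly of `P1_minus_B1` from the sub-packages PB-P, PB-Z, PB-T, PB-J.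
-/

namespace Cfsg.Agent.Lib.Helper2.WG

open Matrix Cfsg Cfsg.Agent.H9SpF Cfsg.Agent.Lib.Helper6.Siegel Cfsg.Agent.Lib.Helper1.SUMin
open Cfsg.Agent.Lib.Helper1 Cfsg.Agent.Lib.Helper4 Cfsg.Agent.Lib.Helper2.WG.Bas
open scoped ComplexConjugate

universe u

variable {F : Type u} [Field F] [Fintype F] {m : ℕ}

namespace PkPB

/-! ### generalities on sums -/

theorem split_zero {V : Type*} [AddCommMonoid V] [DecidableEq F] (h : F → V) :
    ∑ s : F, h s = h 0 + ∑ s : F, (if s = 0 then 0 else h s) := by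
  have h1 : ∀ s : F, h s = (if s = 0 then h 0 else 0) + (if s = 0 then 0 else h s) := by
    intro s
    by_cases hs : s = 0
    · rw [if_pos hs, if_pos hs, add_zero, hs]
    · rw [if_neg hs, if_neg hs, zero_add]
  conv_lhs => rw [Finset.sum_congr rfl fun s _ => h1 s]
  rw [Finset.sum_add_distrib, Finset.sum_ite_eq' Finset.univ (0 : F) (fun _ => h 0),
    if_pos (Finset.mem_univ _)]

theorem sum_ite_const [DecidableEq F] (c : ℝ) :
    ∑ s : F, (if s = 0 then 0 else c) = ((Fintype.card F : ℝ) - 1) * c := by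
  have h := split_zero (F := F) (fun _ => c)
  rw [Finset.sum_const, Finset.card_univ, nsmul_eq_mul] at h
  linarith

/-- sums over the two square classes -/
theorem sum_sq_class [DecidableEq F] (hodd : Odd (Fintype.card F)) (ν : F) (hν : ¬ IsSquare ν)
    (f : F → ℝ) (hf : ∀ s u : F, u ≠ 0 → f (s * u ^ 2) = f s) :
    ∑ s : F, (if s = 0 then 0 else f s) = ((Fintype.card F : ℝ) - 1) / 2 * (f 1 + f ν) := by
  have hν0 := ne_zero_of_not_isSquare hν
  have h1 : ∑ s : F, (if s = 0 then 0 else f (ν * s)) = ∑ s : F, (if s = 0 then 0 else f s) := by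
    rw [← Equiv.sum_comp (Equiv.mulLeft₀ ν hν0) (fun s => if s = 0 then 0 else f s)]
    refine Finset.sum_congr rfl fun s _ => ?_
    show _ = if ν * s = 0 then 0 else f (ν * s)
    by_cases hs : s = 0
    · rw [if_pos hs, if_pos (by rw [hs, mul_zero])]
    · rw [if_neg hs, if_neg (mul_ne_zero hν0 hs)]
  have h2 : ∑ s : F, ((if s = 0 then 0 else f s) + (if s = 0 then 0 else f (ν * s))) =
      ∑ s : F, (if s = 0 then 0 else f 1 + f ν) := by
    refine Finset.sum_congr rfl fun s _ => ?_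
    by_cases hs : s = 0
    · rw [if_pos hs, if_pos hs, if_pos hs, add_zero]
    · rw [if_neg hs, if_neg hs, if_neg hs]
      obtain ⟨u, hu, h | h⟩ := sq_class_cases hodd ν hν s hs
      · have e1 : f s = f 1 := by rw [h, hf 1 u hu]
        have e2 : f (ν * s) = f ν := by
          rw [h, one_mul, hf ν u hu]
        rw [e1, e2]
      · have e1 : f s = f ν := by rw [h, hf ν u hu]
        have e2 : f (ν * s) = f 1 := by
          have : ν * s = 1 * (ν * u) ^ 2 := by rw [h]; ring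
          rw [this, hf 1 (ν * u) (mul_ne_zero hν0 hu)]
        rw [e1, e2, add_comm]
  rw [Finset.sum_add_distrib, h1, sum_ite_const] at h2
  linarith

/-! ### the two sides -/

section sides

variable [DecidableEq F]

omit [Field F] [DecidableEq F] in
theorem card_fun : (Fintype.card (Fin m → F) : ℂ) = (Fintype.card F : ℂ) ^ m := by
  rw [Fintype.card_fun, Fintype.card_fin, Nat.cast_pow]

/-- the sum over `B₁ × Sp m` -/
theorem B_side (hodd : Odd (Fintype.card F)) (ψ : AddChar F ℂ) (hψ : ψ ≠ 1)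
    {χ χ' : Sp (m + 1) F → ℂ} (hχ : IsClassFunction (Sp (m + 1) F) χ)
    (hχ' : IsClassFunction (Sp (m + 1) F) χ') {εχ εχ' : ℂ} (hε : εχ = 1 ∨ εχ = -1)
    (hε' : εχ' = 1 ∨ εχ' = -1) (hχn : ∀ g, χ (negS g) = εχ * χ g)
    (hχn' : ∀ g, χ' (negS g) = εχ' * χ' g) :
    ∑ a : B1 F × Sp m F, χ (ιK (jB a)) * conj (χ' (ιK (jB a))) =
      (Fintype.card F : ℂ) * (∑ u : Fˣ, ∑ g : Sp m F, Dz ψ 0 χ χ' (hT u * ιG g) +
        (1 + εχ * εχ') * ∑ s : F, (if s = 0 then 0 else ∑ g : Sp m F, Dz ψ s χ χ' (ιG g))) := by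
  rw [sum_B1G_eq (fun p => χ p * conj (χ' p))]
  have h1 : ∑ t : F, ∑ u : Fˣ, ∑ g : Sp m F,
      χ (zE t * hT u * ιG g) * conj (χ' (zE t * hT u * ιG g)) =
      ∑ u : Fˣ, ∑ g : Sp m F, ∑ t : F,
        χ (zE t * (hT u * ιG g)) * conj (χ' (zE t * (hT u * ιG g))) := by
    refine Finset.sum_comm.trans ?_
    refine Finset.sum_congr rfl fun u _ => ?_
    refine Finset.sum_comm.trans ?_
    refine Finset.sum_congr rfl fun g _ => ?_
    refine Finset.sum_congr rfl fun t _ => ?_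
    rw [mul_assoc]
  rw [h1]
  simp_rw [Zorth ψ hψ, ← Finset.mul_sum]
  congr 1
  have h2 : ∑ u : Fˣ, ∑ g : Sp m F, ∑ s : F, Dz ψ s χ χ' (hT u * ιG g) =
      ∑ s : F, ∑ u : Fˣ, ∑ g : Sp m F, Dz ψ s χ χ' (hT u * ιG g) := by
    calc _ = ∑ u : Fˣ, ∑ s : F, ∑ g : Sp m F, Dz ψ s χ χ' (hT u * ιG g) :=
          Finset.sum_congr rfl fun u _ => Finset.sum_comm
      _ = _ := Finset.sum_comm
  rw [h2, split_zero (fun s => ∑ u : Fˣ, ∑ g : Sp m F, Dz ψ s χ χ' (hT u * ιG g))]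
  congr 1
  rw [Finset.mul_sum]
  refine Finset.sum_congr rfl fun s _ => ?_
  by_cases hs : s = 0
  · rw [if_pos hs, if_pos hs, mul_zero]
  · rw [if_neg hs, if_neg hs]
    have h3 := sum_units_Dz hodd ψ hψ hχ hχ' hε hε' hχn hχn' s hs (0 : Fin m → F) 0 0
    rw [ηE_zero] at h3
    simp only [one_mul] at h3
    exact h3

/-- the sum over `P₁` -/
theorem P_side (hodd : Odd (Fintype.card F)) (ψ : AddChar F ℂ) (hψ : ψ ≠ 1)
    {χ χ' : Sp (m + 1) F → ℂ} (hχ : IsCharacter (Sp (m + 1) F) χ)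
    (hχ' : IsCharacter (Sp (m + 1) F) χ') (hs : QSmall ψ χ) (hs' : QSmall ψ χ') {εχ εχ' : ℂ}
    (hε : εχ = 1 ∨ εχ = -1)
    (hε' : εχ' = 1 ∨ εχ' = -1) (hχn : ∀ g, χ (negS g) = εχ * χ g)
    (hχn' : ∀ g, χ' (negS g) = εχ' * χ' g) :
    ∑ p : P1 m F, χ (p : Sp (m + 1) F) * conj (χ' (p : Sp (m + 1) F)) =
      (Fintype.card F : ℂ) * ((Fintype.card F : ℂ) ^ m * (Fintype.card F : ℂ) ^ m *
          ∑ u : Fˣ, ∑ g : Sp m F, Dz ψ 0 χ χ' (hT u * ιG g) +
        (1 + εχ * εχ') * ∑ s : F, (if s = 0 then 0 else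
          ∑ x : Fin m → F, ∑ v : Fin m → F, ∑ g : Sp m F, Dz ψ s χ χ' (ηE x v 0 * ιG g))) := by
  have h2F := two_ne_zero_of_odd' hodd
  have hcf := isClassFunction_of_isCharacter hχ
  have hcf' := isClassFunction_of_isCharacter hχ'
  rw [sum_P1_eq (fun p => χ p * conj (χ' p))]
  have h1 : ∑ x : Fin m → F, ∑ v : Fin m → F, ∑ t : F, ∑ u : Fˣ, ∑ g : Sp m F,
      χ (ηE x v t * hT u * ιG g) * conj (χ' (ηE x v t * hT u * ιG g)) =
      ∑ x : Fin m → F, ∑ v : Fin m → F, ∑ u : Fˣ, ∑ g : Sp m F, ∑ t : F,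
        χ (zE t * (ηE x v 0 * hT u * ιG g)) * conj (χ' (zE t * (ηE x v 0 * hT u * ιG g))) := by
    refine Finset.sum_congr rfl fun x _ => ?_
    refine Finset.sum_congr rfl fun v _ => ?_
    refine Finset.sum_comm.trans ?_
    refine Finset.sum_congr rfl fun u _ => ?_
    refine Finset.sum_comm.trans ?_
    refine Finset.sum_congr rfl fun g _ => ?_
    refine Finset.sum_congr rfl fun t _ => ?_
    rw [ηE_eq_zE_mul x v t]
    simp only [mul_assoc]
  rw [h1]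
  simp_rw [Zorth ψ hψ, ← Finset.mul_sum]
  congr 1
  have h2 : ∑ x : Fin m → F, ∑ v : Fin m → F, ∑ u : Fˣ, ∑ g : Sp m F, ∑ s : F,
      Dz ψ s χ χ' (ηE x v 0 * hT u * ιG g) =
      ∑ s : F, ∑ x : Fin m → F, ∑ v : Fin m → F, ∑ u : Fˣ, ∑ g : Sp m F,
        Dz ψ s χ χ' (ηE x v 0 * hT u * ιG g) := by
    calc _ = ∑ x : Fin m → F, ∑ v : Fin m → F, ∑ u : Fˣ, ∑ s : F, ∑ g : Sp m F,
            Dz ψ s χ χ' (ηE x v 0 * hT u * ιG g) :=
          Finset.sum_congr rfl fun x _ => Finset.sum_congr rfl fun v _ =>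
            Finset.sum_congr rfl fun u _ => Finset.sum_comm
      _ = ∑ x : Fin m → F, ∑ v : Fin m → F, ∑ s : F, ∑ u : Fˣ, ∑ g : Sp m F,
            Dz ψ s χ χ' (ηE x v 0 * hT u * ιG g) :=
          Finset.sum_congr rfl fun x _ => Finset.sum_congr rfl fun v _ => Finset.sum_comm
      _ = ∑ x : Fin m → F, ∑ s : F, ∑ v : Fin m → F, ∑ u : Fˣ, ∑ g : Sp m F,
            Dz ψ s χ χ' (ηE x v 0 * hT u * ιG g) :=
          Finset.sum_congr rfl fun x _ => Finset.sum_comm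
      _ = _ := Finset.sum_comm
  rw [h2, split_zero (fun s => ∑ x : Fin m → F, ∑ v : Fin m → F, ∑ u : Fˣ, ∑ g : Sp m F,
    Dz ψ s χ χ' (ηE x v 0 * hT u * ιG g))]
  congr 1
  · -- `s = 0`
    have h3 : ∀ (x v : Fin m → F) (u : Fˣ) (g : Sp m F),
        Dz ψ 0 χ χ' (ηE x v 0 * hT u * ιG g) = Dz ψ 0 χ χ' (hT u * ιG g) := by
      intro x v u g
      have hp : hT u * ιG g ∈ P1 m F := (P1 m F).mul_mem (hT_mem_P1 u) (ιG_mem_P1 g)
      rw [Dz_apply, Dz_apply, mul_assoc, zproj_zero_ηE_mul h2F ψ hψ hχ hs x v 0 _ hp,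
        zproj_zero_ηE_mul h2F ψ hψ hχ' hs' x v 0 _ hp]
    simp_rw [h3]
    rw [Finset.sum_const, Finset.sum_const, Finset.card_univ, nsmul_eq_mul, nsmul_eq_mul,
      card_fun, ← mul_assoc]
  · rw [Finset.mul_sum]
    refine Finset.sum_congr rfl fun s _ => ?_
    by_cases hs0 : s = 0
    · rw [if_pos hs0, if_pos hs0, mul_zero]
    · rw [if_neg hs0, if_neg hs0, Finset.mul_sum]
      refine Finset.sum_congr rfl fun x _ => ?_
      rw [Finset.mul_sum]
      refine Finset.sum_congr rfl fun v _ => ?_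
      exact sum_units_Dz hodd ψ hψ hcf hcf' hε hε' hχn hχn' s hs0 x v 0

theorem card_B1G : (Nat.card (B1 F × Sp m F) : ℂ) =
    (Fintype.card F : ℂ) * ((Fintype.card F : ℂ) - 1) * (Nat.card (Sp m F) : ℂ) := by
  have h := sum_B1G_eq (m := m) (F := F) (fun _ => (1 : ℂ))
  simp only [Finset.sum_const, Finset.card_univ, nsmul_eq_mul, mul_one] at h
  rw [Nat.card_eq_fintype_card, Nat.card_eq_fintype_card, h, Fintype.card_units,
    Nat.cast_sub Fintype.card_pos, Nat.cast_one]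
  ring

theorem card_P1 : (Nat.card (P1 m F) : ℂ) =
    (Fintype.card F : ℂ) ^ m * (Fintype.card F : ℂ) ^ m * (Fintype.card F : ℂ) *
      ((Fintype.card F : ℂ) - 1) * (Nat.card (Sp m F) : ℂ) := by
  have h := sum_P1_eq (m := m) (F := F) (fun _ => (1 : ℂ))
  simp only [Finset.sum_const, Finset.card_univ, nsmul_eq_mul, mul_one] at h
  rw [Nat.card_eq_fintype_card, Nat.card_eq_fintype_card, h, Fintype.card_units,
    Nat.cast_sub Fintype.card_pos, Nat.cast_one, card_fun]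
  ring

end sides

end PkPB

open PkPB in
/-- PK-PB : the parabolic side -/
theorem P1_minus_B1 (hodd : Odd (Fintype.card F)) (ψ : AddChar F ℂ) (hψ : ψ ≠ 1) (hm : 1 ≤ m)
    (ν : F) (hν : ¬ IsSquare ν)
    {χ χ' : Sp (m + 1) F → ℂ} (hχ : IsIrrCharacter (Sp (m + 1) F) χ)
    (hχ' : IsIrrCharacter (Sp (m + 1) F) χ') (hs : QSmall ψ χ) (hs' : QSmall ψ χ')
    (b₁ bν c₁ cν : ℕ) (hb₁ : bpar ψ χ 1 = b₁) (hbν : bpar ψ χ ν = bν)
    (hc₁ : bpar ψ χ' 1 = c₁) (hcν : bpar ψ χ' ν = cν) :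
    (classInner (fun a : B1 F × Sp m F => χ (ιK (jB a))) (fun a => χ' (ιK (jB a)))).re -
        ((b₁ * c₁ + bν * cν : ℕ) : ℝ) ≤
      (classInner (fun p : P1 m F => χ (p : Sp (m + 1) F))
        (fun p : P1 m F => χ' (p : Sp (m + 1) F))).re := by
  classical
  obtain ⟨εχ, hε, hχn⟩ := PkK5.exists_central_sign hχ
  obtain ⟨εχ', hε', hχn'⟩ := PkK5.exists_central_sign hχ'
  have hχc := isCharacter_of_irr hχ
  have hχc' := isCharacter_of_irr hχ'
  have hcf := isClassFunction_of_isCharacter hχc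
  have hcf' := isClassFunction_of_isCharacter hχc'
  -- the real quantities
  have hq1 : (1 : ℝ) < (Fintype.card F : ℝ) := by
    exact_mod_cast Fintype.one_lt_card
  have hq0 : (Fintype.card F : ℂ) ≠ 0 := Nat.cast_ne_zero.2 Fintype.card_ne_zero
  have hq10 : (Fintype.card F : ℂ) - 1 ≠ 0 := by
    intro h
    have h' : ((Fintype.card F : ℝ) : ℂ) = ((1 : ℝ) : ℂ) := by
      push_cast
      exact sub_eq_zero.1 h
    have := Complex.ofReal_injective h'
    linarith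
  have hNG : (Nat.card (Sp m F) : ℂ) ≠ 0 := Nat.cast_ne_zero.2 Nat.card_pos.ne'
  -- abbreviations
  set T0 : ℂ := ∑ u : Fˣ, ∑ g : Sp m F, Dz ψ 0 χ χ' (hT u * ιG g) with hT0
  set SA : ℂ := ∑ s : F, (if s = 0 then 0 else ∑ g : Sp m F, Dz ψ s χ χ' (ιG g)) with hSA
  set SI : ℂ := ∑ s : F, (if s = 0 then 0 else
    ∑ x : Fin m → F, ∑ v : Fin m → F, ∑ g : Sp m F, Dz ψ s χ χ' (ηE x v 0 * ιG g)) with hSI
  have hB : classInner (fun a : B1 F × Sp m F => χ (ιK (jB a))) (fun a => χ' (ιK (jB a))) =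
      ((Fintype.card F : ℂ) * ((Fintype.card F : ℂ) - 1) * (Nat.card (Sp m F) : ℂ))⁻¹ *
        ((Fintype.card F : ℂ) * (T0 + (1 + εχ * εχ') * SA)) := by
    unfold classInner
    rw [card_B1G, B_side hodd ψ hψ hcf hcf' hε hε' hχn hχn']
  have hP : classInner (fun p : P1 m F => χ (p : Sp (m + 1) F))
      (fun p : P1 m F => χ' (p : Sp (m + 1) F)) =
      ((Fintype.card F : ℂ) ^ m * (Fintype.card F : ℂ) ^ m * (Fintype.card F : ℂ) *
        ((Fintype.card F : ℂ) - 1) * (Nat.card (Sp m F) : ℂ))⁻¹ *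
        ((Fintype.card F : ℂ) * ((Fintype.card F : ℂ) ^ m * (Fintype.card F : ℂ) ^ m * T0 +
          (1 + εχ * εχ') * SI)) := by
    unfold classInner
    rw [card_P1, P_side hodd ψ hψ hχc hχc' hs hs' hε hε' hχn hχn']
  -- the difference
  set cI : F → ℂ := fun s => classInner (chis ψ s χ) (chis ψ s χ') with hcI
  set JJ : F → ℂ := fun s => ((Fintype.card F : ℂ) ^ (2 * m) * (Nat.card (Sp m F) : ℂ))⁻¹ *
    ∑ x : Fin m → F, ∑ v : Fin m → F, ∑ g : Sp m F, Dz ψ s χ χ' (ηE x v 0 * ιG g) with hJJ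
  have hdiff : classInner (fun a : B1 F × Sp m F => χ (ιK (jB a))) (fun a => χ' (ιK (jB a))) -
      classInner (fun p : P1 m F => χ (p : Sp (m + 1) F))
        (fun p : P1 m F => χ' (p : Sp (m + 1) F)) =
      (1 + εχ * εχ') / ((Fintype.card F : ℂ) - 1) *
        ∑ s : F, (if s = 0 then 0 else (cI s - JJ s)) := by
    have h1 : ∑ s : F, (if s = 0 then 0 else (cI s - JJ s)) =
        (Nat.card (Sp m F) : ℂ)⁻¹ * SA -
          ((Fintype.card F : ℂ) ^ (2 * m) * (Nat.card (Sp m F) : ℂ))⁻¹ * SI := by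
      rw [hSA, hSI, Finset.mul_sum, Finset.mul_sum, ← Finset.sum_sub_distrib]
      refine Finset.sum_congr rfl fun s _ => ?_
      by_cases hs0 : s = 0
      · rw [if_pos hs0, if_pos hs0, if_pos hs0, mul_zero, mul_zero, sub_zero]
      · rw [if_neg hs0, if_neg hs0, if_neg hs0]
        rfl
    rw [h1, hB, hP]
    have hqm : (Fintype.card F : ℂ) ^ (2 * m) = (Fintype.card F : ℂ) ^ m * (Fintype.card F : ℂ) ^ m := by
      rw [two_mul, pow_add]
    rw [hqm]
    have hqm0 : (Fintype.card F : ℂ) ^ m ≠ 0 := pow_ne_zero _ hq0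
    field_simp
    ring
  -- the sign factor is real
  obtain ⟨e, he, he0, he2⟩ : ∃ e : ℝ, (1 + εχ * εχ' : ℂ) = (e : ℂ) ∧ 0 ≤ e ∧ e ≤ 2 := by
    rcases hε with h | h <;> rcases hε' with h' | h' <;> rw [h, h']
    · exact ⟨2, by push_cast; ring, by norm_num, le_rfl⟩
    · exact ⟨0, by push_cast; ring, le_rfl, by norm_num⟩
    · exact ⟨0, by push_cast; ring, le_rfl, by norm_num⟩
    · exact ⟨2, by push_cast; ring, by norm_num, le_rfl⟩
  have hκ : (1 + εχ * εχ') / ((Fintype.card F : ℂ) - 1) =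
      ((e / ((Fintype.card F : ℝ) - 1) : ℝ) : ℂ) := by
    rw [he]
    push_cast
    rfl
  -- the parameters
  set f : F → ℝ := fun s => (bpar ψ χ s).re * (bpar ψ χ' s).re with hf
  have hfsq : ∀ s u : F, u ≠ 0 → f (s * u ^ 2) = f s := by
    intro s u hu
    show (bpar ψ χ (s * u ^ 2)).re * (bpar ψ χ' (s * u ^ 2)).re = _
    rw [bpar_sq ψ hcf s u hu, bpar_sq ψ hcf' s u hu]
  have hf1 : f 1 = (b₁ : ℝ) * c₁ := by
    show (bpar ψ χ 1).re * (bpar ψ χ' 1).re = _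
    rw [hb₁, hc₁, Complex.natCast_re, Complex.natCast_re]
  have hfν : f ν = (bν : ℝ) * cν := by
    show (bpar ψ χ ν).re * (bpar ψ χ' ν).re = _
    rw [hbν, hcν, Complex.natCast_re, Complex.natCast_re]
  have hterm : ∀ s : F, s ≠ 0 → (cI s - JJ s).re ≤ f s := by
    intro s hs0
    obtain ⟨u, hu, h | h⟩ := Bas.sq_class_cases hodd ν hν s hs0
    · have e1 : bpar ψ χ s = b₁ := by rw [h, bpar_sq ψ hcf 1 u hu, hb₁]
      have e2 : bpar ψ χ' s = c₁ := by rw [h, bpar_sq ψ hcf' 1 u hu, hc₁]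
      have h3 := chis_inner_le_bpar hodd ψ hψ hm hχc hχc' hs hs' s hs0 b₁ c₁ e1 e2
      have h4 : f s = ((b₁ * c₁ : ℕ) : ℝ) := by
        show (bpar ψ χ s).re * (bpar ψ χ' s).re = _
        rw [e1, e2, Complex.natCast_re, Complex.natCast_re, Nat.cast_mul]
      rw [Complex.sub_re, h4]
      linarith
    · have e1 : bpar ψ χ s = bν := by rw [h, bpar_sq ψ hcf ν u hu, hbν]
      have e2 : bpar ψ χ' s = cν := by rw [h, bpar_sq ψ hcf' ν u hu, hcν]
      have h3 := chis_inner_le_bpar hodd ψ hψ hm hχc hχc' hs hs' s hs0 bν cν e1 e2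
      have h4 : f s = ((bν * cν : ℕ) : ℝ) := by
        show (bpar ψ χ s).re * (bpar ψ χ' s).re = _
        rw [e1, e2, Complex.natCast_re, Complex.natCast_re, Nat.cast_mul]
      rw [Complex.sub_re, h4]
      linarith
  have hsum : (∑ s : F, (if s = 0 then 0 else (cI s - JJ s))).re ≤
      ((Fintype.card F : ℝ) - 1) / 2 * ((b₁ : ℝ) * c₁ + (bν : ℝ) * cν) := by
    rw [Complex.re_sum, ← hf1, ← hfν, ← sum_sq_class hodd ν hν f hfsq]
    apply Finset.sum_le_sum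
    intro s _
    by_cases hs0 : s = 0
    · rw [if_pos hs0, if_pos hs0, Complex.zero_re]
    · rw [if_neg hs0, if_neg hs0]
      exact hterm s hs0
  -- conclusion
  have hre := congrArg Complex.re hdiff
  rw [Complex.sub_re, hκ, Complex.re_ofReal_mul] at hre
  have hκ0 : 0 ≤ e / ((Fintype.card F : ℝ) - 1) := div_nonneg he0 (by linarith)
  have h5 := mul_le_mul_of_nonneg_left hsum hκ0
  have hbc : (0 : ℝ) ≤ (b₁ : ℝ) * c₁ + (bν : ℝ) * cν := by positivity
  have h6 : e / ((Fintype.card F : ℝ) - 1) *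
      (((Fintype.card F : ℝ) - 1) / 2 * ((b₁ : ℝ) * c₁ + (bν : ℝ) * cν)) =
      e / 2 * ((b₁ : ℝ) * c₁ + (bν : ℝ) * cν) := by
    have : (Fintype.card F : ℝ) - 1 ≠ 0 := by linarith
    field_simp
  have h7 : e / 2 * ((b₁ : ℝ) * c₁ + (bν : ℝ) * cν) ≤ (b₁ : ℝ) * c₁ + (bν : ℝ) * cν := by
    have : e / 2 ≤ 1 := by linarith
    nlinarith
  push_cast
  linarith

end Cfsg.Agent.Lib.Helper2.WG
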