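import Mathlib
import Cfsg.Agent.Lib.Helper1.WG_F0
import Cfsg.Agent.Lib.Helper1.WG_A2
import Cfsg.Agent.Lib.Helper4.WG_A1
import Cfsg.Agent.Lib.Helper3.WG_C8
import Cfsg.Agent.Lib.Lead.WG_SL2b
import Cfsg.Agent.Lib.Helper6.WG_G2
import Cfsg.Agent.Lib.Helper9.WG_R1
import Cfsg.Agent.Lib.Helper5.WG_R4
import Cfsg.Agent.Lib.Helper9.WG_R5
import Cfsg.Agent.Lib.Helper1.WG_F3
import Cfsg.Agent.Lib.Helper8.WG_KA
import Cfsg.Agent.Lib.Helper2.WG.K5c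
import Cfsg.Agent.Lib.Helper2.WG.PBAsm
import Cfsg.Agent.Lib.Helper4.Characters

set_option autoImplicit false

namespace Cfsg.Agent.Lib.Helper2.WG

open Matrix Cfsg Cfsg.Agent.H9SpF Cfsg.Agent.Lib.Helper6.Siegel Cfsg.Agent.Lib.Helper1.SUMin
open scoped ComplexConjugate

universe u

variable {F : Type u} [Field F] [Fintype F] {m : ℕ}

namespace Asm

/-- `B₁ × Sp m → P₁` -/
def jP : B1 F × Sp m F →* P1 m F where
  toFun a := ⟨ιK (jB a), by
    rw [jB_apply, ιK_eq_mul]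
    exact (P1 m F).mul_mem ((ιS_mem_P1_iff _).2 a.1.2) (ιG_mem_P1 _)⟩
  map_one' := by
    apply Subtype.ext
    show ιK (jB 1) = 1
    rw [map_one, map_one]
  map_mul' a b := by
    apply Subtype.ext
    show ιK (jB (a * b)) = ιK (jB a) * ιK (jB b)
    rw [map_mul, map_mul]

theorem jP_coe (a : B1 F × Sp m F) : ((jP a : P1 m F) : Sp (m + 1) F) = ιK (jB a) := rfl

theorem closure_K_P1 :
    Subgroup.closure (Set.range (ιK (m := m) (F := F)) ∪ Set.range (P1 m F).subtype) = ⊤ := by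
  rw [eq_top_iff, ← closure_ιS_H1 (m := m) (F := F)]
  apply Subgroup.closure_mono
  rintro g ((⟨s, rfl⟩ | ⟨x, rfl⟩) | ⟨v, rfl⟩)
  · left
    exact ⟨(s, 1), rfl⟩
  · right
    exact ⟨⟨xE x, xE_mem_P1 x⟩, rfl⟩
  · right
    exact ⟨⟨yE v, qE_mem_P1 _ _ _⟩, rfl⟩

/-- the amalgam inequality for `Sp (m+1) = ⟨Sp 1 × Sp m, P₁⟩` -/
theorem amalgam_Sp {χ χ' : Sp (m + 1) F → ℂ} (hχ : IsCharacter (Sp (m + 1) F) χ)
    (hχ' : IsCharacter (Sp (m + 1) F) χ') :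
    (classInner (fun a : Sp 1 F × Sp m F => χ (ιK a)) (fun a => χ' (ιK a))).re +
      (classInner (fun p : P1 m F => χ (p : Sp (m + 1) F))
        (fun p : P1 m F => χ' (p : Sp (m + 1) F))).re ≤
    (classInner χ χ').re +
      (classInner (fun a : B1 F × Sp m F => χ (ιK (jB a))) (fun a => χ' (ιK (jB a)))).re := by
  have h := amalgam_ineq (G := Sp (m + 1) F) (A₁ := Sp 1 F × Sp m F) (A₂ := P1 m F)
    (A₁₂ := B1 F × Sp m F) (ιK (m := m) (F := F)) (P1 m F).subtype jB jP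
    (fun x => rfl) closure_K_P1 hχ hχ'
  exact h

open Cfsg.Agent.Lib.Helper4 in
/-- the key inequality -/
theorem key_ineq (hodd : Odd (Fintype.card F)) (ψ : AddChar F ℂ) (hψ : ψ ≠ 1) (hm : 1 ≤ m)
    (ν : F) (hν : ¬ IsSquare ν)
    {E₁ O₁ Eν Oν : Sp 1 F → ℂ} {ε₁ εν : ℂ}
    (w1 : IsWeilPair ψ 1 E₁ O₁ ε₁) (wν : IsWeilPair ψ ν Eν Oν εν)
    {E₁' O₁' Eν' Oν' : Sp m F → ℂ} {ε₁' εν' : ℂ}
    (w1' : IsWeilPair ψ 1 E₁' O₁' ε₁') (wν' : IsWeilPair ψ ν Eν' Oν' εν')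
    {χ χ' : Sp (m + 1) F → ℂ} (hχ : IsIrrCharacter (Sp (m + 1) F) χ)
    (hχ' : IsIrrCharacter (Sp (m + 1) F) χ') (hs : QSmall ψ χ) (hs' : QSmall ψ χ')
    (b₁ bν : ℕ) (t₁ tν : Bool) (hb₁ : bpar ψ χ 1 = b₁) (hbν : bpar ψ χ ν = bν)
    (hK : ∀ p : Sp 1 F × Sp m F, χ (ιK p) =
        (b₁ : ℂ) * Tfun t₁ E₁ O₁ E₁' O₁' p + (bν : ℂ) * Tfun tν Eν Oν Eν' Oν' p)
    (c₁ cν : ℕ) (s₁ sν : Bool) (hc₁ : bpar ψ χ' 1 = c₁) (hcν : bpar ψ χ' ν = cν)
    (hK' : ∀ p : Sp 1 F × Sp m F, χ' (ιK p) =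
        (c₁ : ℂ) * Tfun s₁ E₁ O₁ E₁' O₁' p + (cν : ℂ) * Tfun sν Eν Oν Eν' Oν' p) :
    ((2 * ((if t₁ = s₁ then b₁ * c₁ else 0) + (if tν = sν then bν * cν else 0)) : ℕ) : ℝ) -
      ((b₁ * c₁ + bν * cν : ℕ) : ℝ) ≤ (classInner χ χ').re := by
  have hA := amalgam_Sp (m := m) (isCharacter_of_irr hχ) (isCharacter_of_irr hχ')
  have hP := P1_minus_B1 hodd ψ hψ hm ν hν hχ hχ' hs hs' b₁ bν c₁ cν hb₁ hbν hc₁ hcν
  have hKK : classInner (fun a : Sp 1 F × Sp m F => χ (ιK a)) (fun a => χ' (ιK a)) =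
      2 * (((if t₁ = s₁ then b₁ * c₁ else 0 : ℕ) : ℂ) + ((if tν = sν then bν * cν else 0 : ℕ) : ℂ)) := by
    rw [← inner_K ψ ν hν w1 wν w1' wν' b₁ bν c₁ cν t₁ tν s₁ sν]
    congr 1
    · funext p; exact hK p
    · funext p; exact hK' p
  rw [hKK] at hA
  have hre : (2 * (((if t₁ = s₁ then b₁ * c₁ else 0 : ℕ) : ℂ) +
      ((if tν = sν then bν * cν else 0 : ℕ) : ℂ))).re =
      ((2 * ((if t₁ = s₁ then b₁ * c₁ else 0) + (if tν = sν then bν * cν else 0)) : ℕ) : ℝ) := by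
    have : (2 * (((if t₁ = s₁ then b₁ * c₁ else 0 : ℕ) : ℂ) +
      ((if tν = sν then bν * cν else 0 : ℕ) : ℂ))) =
      (((2 * ((if t₁ = s₁ then b₁ * c₁ else 0) + (if tν = sν then bν * cν else 0)) : ℕ) : ℝ) : ℂ) := by
      split_ifs <;> push_cast <;> ring
    rw [this, Complex.ofReal_re]
  rw [hre] at hA
  linarith

/-- the two square classes of a finite field of odd order -/
theorem sq_class_cases (hodd : Odd (Fintype.card F)) (ν : F) (hν : ¬ IsSquare ν) (c : F)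
    (hc : c ≠ 0) : ∃ u : F, u ≠ 0 ∧ (c = 1 * u ^ 2 ∨ c = ν * u ^ 2) := by
  classical
  have hν0 : ν ≠ 0 := by
    rintro rfl
    exact hν ⟨0, by simp⟩
  have h2 : ringChar F ≠ 2 := by
    intro h
    have := FiniteField.even_card_of_char_two h
    exact (Nat.not_even_iff_odd.2 hodd) (Nat.even_iff.2 this)
  by_cases hsq : IsSquare c
  · obtain ⟨r, hr⟩ := hsq
    have hr0 : r ≠ 0 := by
      rintro rfl
      apply hc
      rw [hr, mul_zero]
    exact ⟨r, hr0, Or.inl (by rw [hr]; ring)⟩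
  · have h1 : quadraticChar F c = -1 := quadraticChar_neg_one_iff_not_isSquare.2 hsq
    have h3 : quadraticChar F ν = -1 := quadraticChar_neg_one_iff_not_isSquare.2 hν
    have h4 : quadraticChar F (c * ν) = 1 := by
      rw [map_mul, h1, h3]
      norm_num
    have h5 : IsSquare (c * ν) := (quadraticChar_one_iff_isSquare (mul_ne_zero hc hν0)).1 h4
    obtain ⟨r, hr⟩ := h5
    have hr0 : r ≠ 0 := by
      rintro rfl
      apply mul_ne_zero hc hν0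
      rw [hr, mul_zero]
    refine ⟨r / ν, div_ne_zero hr0 hν0, Or.inr ?_⟩
    field_simp
    rw [hr]
    ring

theorem two_ne_zero_of_odd' (hodd : Odd (Fintype.card F)) : (2 : F) ≠ 0 := by
  intro h
  have h2 : ringChar F = 2 := by
    have hp : (ringChar F) ∣ 2 := by
      apply (ringChar.spec F 2).1
      exact_mod_cast h
    have hprime := CharP.char_is_prime F (ringChar F)
    exact (Nat.prime_dvd_prime_iff_eq hprime Nat.prime_two).1 hp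
  have := FiniteField.even_card_of_char_two h2
  exact (Nat.not_even_iff_odd.2 hodd) (Nat.even_iff.2 this)

/-- Theorem A -/
theorem thmA {n : ℕ} (hodd : Odd (Fintype.card F)) (ψ : AddChar F ℂ) (hψ : ψ ≠ 1)
    {χ : Sp n F → ℂ} (hχ : IsCharacter (Sp n F) χ) (hs : ¬ QSmall ψ χ) :
    ∃ k : ℕ, χ 1 = k ∧ (Fintype.card F ^ n - 1) * (Fintype.card F ^ n - Fintype.card F) ≤
      2 * (Fintype.card F + 1) * k := by
  have h2 : (2 : F) ≠ 0 := two_ne_zero_of_odd' hodd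
  unfold QSmall at hs
  push Not at hs
  obtain ⟨M, hM, hq, hr⟩ := hs
  obtain ⟨k, hk, hle⟩ := degree_ge_orbit_of_qmult h2 ψ hψ hχ M hM hq
  refine ⟨k, hk, le_trans (orbit_rank_two hodd M hM ?_) (Nat.mul_le_mul_left _ hle)⟩
  rintro ⟨c, w, h⟩
  exact hr c w h

/-- rank one matrices: scaling the vector -/
theorem smul_vecMulVec_sq {n : ℕ} (c u : F) (w : Fin n → F) :
    (c * u ^ 2) • vecMulVec w w = c • vecMulVec (u • w) (u • w) := by
  ext i j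
  simp only [Matrix.smul_apply, vecMulVec_apply, Pi.smul_apply, smul_eq_mul]
  ring

open Cfsg.Agent.Lib.Helper4 in
/-- the multiplicity of a rank one matrix in terms of the two parameters -/
theorem qmult_rank_one_cases (hodd : Odd (Fintype.card F)) (ψ : AddChar F ℂ) (ν : F)
    (hν : ¬ IsSquare ν) {χ : Sp (m + 1) F → ℂ} (hχ : IsClassFunction (Sp (m + 1) F) χ)
    (c : F) (hc : c ≠ 0) (w : Fin (m + 1) → F) (hw : w ≠ 0) :
    (qmult ψ χ (c • vecMulVec w w) = bpar ψ χ 1 ∧ ∃ u : F, u ≠ 0 ∧ c = 1 * u ^ 2) ∨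
    (qmult ψ χ (c • vecMulVec w w) = bpar ψ χ ν ∧ ∃ u : F, u ≠ 0 ∧ c = ν * u ^ 2) := by
  obtain ⟨u, hu, h | h⟩ := sq_class_cases hodd ν hν c hc
  · left
    refine ⟨?_, u, hu, h⟩
    rw [qmult_eq_bpar ψ hχ c w hw, h, bpar_sq ψ hχ 1 u hu]
  · right
    refine ⟨?_, u, hu, h⟩
    rw [qmult_eq_bpar ψ hχ c w hw, h, bpar_sq ψ hχ ν u hu]

open Cfsg.Agent.Lib.Helper4 in
/-- the data of a small irreducible character of `Sp (m+1)` -/
theorem small_data (hodd : Odd (Fintype.card F)) (ψ : AddChar F ℂ) (hψ : ψ ≠ 1) (hm : 1 ≤ m)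
    (ν : F) (hν : ¬ IsSquare ν) (h1 : Classif (F := F) ψ 1) (hmc : Classif (F := F) ψ m)
    {E₁ O₁ Eν Oν : Sp 1 F → ℂ} {ε₁ εν : ℂ}
    (w1 : IsWeilPair ψ 1 E₁ O₁ ε₁) (wν : IsWeilPair ψ ν Eν Oν εν)
    {E₁' O₁' Eν' Oν' : Sp m F → ℂ} {ε₁' εν' : ℂ}
    (w1' : IsWeilPair ψ 1 E₁' O₁' ε₁') (wν' : IsWeilPair ψ ν Eν' Oν' εν')
    {χ : Sp (m + 1) F → ℂ} (hχ : IsIrrCharacter (Sp (m + 1) F) χ) (hne : χ ≠ fun _ => 1)
    (hs : QSmall ψ χ) :
    ∃ (b₁ bν : ℕ) (t₁ tν : Bool), bpar ψ χ 1 = b₁ ∧ bpar ψ χ ν = bν ∧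
      qmult ψ χ 0 = (if t₁ then (b₁ : ℂ) else 0) + (if tν then (bν : ℂ) else 0) ∧
      (∀ p : Sp 1 F × Sp m F, χ (ιK p) =
        (b₁ : ℂ) * Tfun t₁ E₁ O₁ E₁' O₁' p + (bν : ℂ) * Tfun tν Eν Oν Eν' Oν' p) ∧
      ((b₁ = 1 ∧ bν = 0) ∨ (b₁ = 0 ∧ bν = 1)) := by
  have h2 := two_ne_zero_of_odd' hodd
  have hcf := isClassFunction_of_isCharacter (isCharacter_of_irr hχ)
  obtain ⟨b₁, bν, t₁, tν, hb₁, hbν, ha, hK⟩ :=
    K_structure hodd ψ hψ hm ν hν h1 hmc w1 wν w1' wν' hχ hne hs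
  refine ⟨b₁, bν, t₁, tν, hb₁, hbν, ha, hK, ?_⟩
  have hkey := key_ineq hodd ψ hψ hm ν hν w1 wν w1' wν' hχ hχ hs hs b₁ bν t₁ tν hb₁ hbν hK
    b₁ bν t₁ tν hb₁ hbν hK
  rw [classInner_irr_self hχ, Complex.one_re] at hkey
  simp only [if_true] at hkey
  have hle : b₁ * b₁ + bν * bν ≤ 1 := by
    have : ((2 * (b₁ * b₁ + bν * bν) : ℕ) : ℝ) - ((b₁ * b₁ + bν * bν : ℕ) : ℝ) ≤ 1 := hkey
    have h' : ((b₁ * b₁ + bν * bν : ℕ) : ℝ) ≤ 1 := by
      push_cast at this ⊢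
      linarith
    exact_mod_cast h'
  have hnz : ¬ (b₁ = 0 ∧ bν = 0) := by
    rintro ⟨h10, hν0⟩
    apply hne
    apply eq_one_of_qmult h2 ψ hψ (by omega) hχ
    intro M hM hM0
    by_contra hq
    obtain ⟨c, w, hMc⟩ := hs M hM hq
    have hc : c ≠ 0 := by
      rintro rfl
      apply hM0
      rw [hMc, zero_smul]
    have hw : w ≠ 0 := by
      rintro rfl
      apply hM0
      rw [hMc]
      ext i j
      simp [vecMulVec_apply]
    rw [hMc] at hq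
    rcases qmult_rank_one_cases hodd ψ ν hν hcf c hc w hw with ⟨h, -⟩ | ⟨h, -⟩
    · rw [h, hb₁, h10] at hq
      exact hq (by simp)
    · rw [h, hbν, hν0] at hq
      exact hq (by simp)
  have hb1 : b₁ ≤ 1 := by nlinarith
  have hbn : bν ≤ 1 := by nlinarith
  interval_cases b₁ <;> interval_cases bν <;> simp_all

theorem exists_nonsquare' (hodd : Odd (Fintype.card F)) : ∃ ν : F, ¬ IsSquare ν := by
  apply FiniteField.exists_nonsquare
  intro h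
  have := FiniteField.even_card_of_char_two h
  exact (Nat.not_even_iff_odd.2 hodd) (Nat.even_iff.2 this)

theorem ne_zero_of_not_isSquare {ν : F} (hν : ¬ IsSquare ν) : ν ≠ 0 := by
  rintro rfl
  exact hν ⟨0, by simp⟩

open Cfsg.Agent.Lib.Helper4 in
/-- `PureSmall` from the data -/
theorem pure_of_data (hodd : Odd (Fintype.card F)) (ψ : AddChar F ℂ) (ν : F) (hν : ¬ IsSquare ν)
    {χ : Sp (m + 1) F → ℂ} (hχ : IsClassFunction (Sp (m + 1) F) χ) (hs : QSmall ψ χ) :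
    (bpar ψ χ ν = 0 → PureSmall ψ 1 χ) ∧ (bpar ψ χ 1 = 0 → PureSmall ψ ν χ) := by
  constructor
  · intro hb M hM hq
    obtain ⟨c, w, hMc⟩ := hs M hM hq
    by_cases hc : c = 0
    · exact ⟨0, by rw [hMc, hc, zero_smul]; ext i j; simp⟩
    by_cases hw : w = 0
    · exact ⟨0, by rw [hMc, hw]; ext i j; simp⟩
    rw [hMc] at hq
    rcases qmult_rank_one_cases hodd ψ ν hν hχ c hc w hw with ⟨-, u, -, hu⟩ | ⟨h, -⟩
    · exact ⟨u • w, by rw [hMc, hu, smul_vecMulVec_sq]⟩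
    · rw [h, hb] at hq
      exact absurd rfl hq
  · intro hb M hM hq
    obtain ⟨c, w, hMc⟩ := hs M hM hq
    by_cases hc : c = 0
    · exact ⟨0, by rw [hMc, hc, zero_smul]; ext i j; simp⟩
    by_cases hw : w = 0
    · exact ⟨0, by rw [hMc, hw]; ext i j; simp⟩
    rw [hMc] at hq
    rcases qmult_rank_one_cases hodd ψ ν hν hχ c hc w hw with ⟨h, -⟩ | ⟨-, u, -, hu⟩
    · rw [h, hb] at hq
      exact absurd rfl hq
    · exact ⟨u • w, by rw [hMc, hu, smul_vecMulVec_sq]⟩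

open Cfsg.Agent.Lib.Helper4 in
theorem struct_step (hodd : Odd (Fintype.card F)) (ψ : AddChar F ℂ) (hψ : ψ ≠ 1) (hm : 1 ≤ m)
    (h1 : Classif (F := F) ψ 1) (hmc : Classif (F := F) ψ m) : Struct (F := F) ψ (m + 1) := by
  obtain ⟨ν, hν⟩ := exists_nonsquare' (F := F) hodd
  have hν0 := ne_zero_of_not_isSquare hν
  obtain ⟨E₁, O₁, ε₁, w1⟩ := exists_weilPair hodd ψ hψ 1 le_rfl (1 : F) one_ne_zero
  obtain ⟨Eν, Oν, εν, wν⟩ := exists_weilPair hodd ψ hψ 1 le_rfl ν hν0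
  obtain ⟨E₁', O₁', ε₁', w1'⟩ := exists_weilPair hodd ψ hψ m hm (1 : F) one_ne_zero
  obtain ⟨Eν', Oν', εν', wν'⟩ := exists_weilPair hodd ψ hψ m hm ν hν0
  intro χ hχ hne hs
  have hcf := isClassFunction_of_isCharacter (isCharacter_of_irr hχ)
  obtain ⟨b₁, bν, t₁, tν, hb₁, hbν, ha, hK, hcase⟩ :=
    small_data hodd ψ hψ hm ν hν h1 hmc w1 wν w1' wν' hχ hne hs
  obtain ⟨hp1, hpν⟩ := pure_of_data hodd ψ ν hν hcf hs
  rcases hcase with ⟨h1b, hνb⟩ | ⟨h1b, hνb⟩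
  · refine ⟨1, one_ne_zero, hp1 (by rw [hbν, hνb]; simp), ?_, ?_⟩
    · intro w hw
      rw [qmult_eq_bpar ψ hcf 1 w hw, hb₁, h1b]
      simp
    · rw [ha, h1b, hνb]
      cases t₁ <;> cases tν <;> simp
  · refine ⟨ν, hν0, hpν (by rw [hb₁, h1b]; simp), ?_, ?_⟩
    · intro w hw
      rw [qmult_eq_bpar ψ hcf ν w hw, hbν, hνb]
      simp
    · rw [ha, h1b, hνb]
      cases t₁ <;> cases tν <;> simp

open Cfsg.Agent.Lib.Helper4 in
theorem uniq_step (hodd : Odd (Fintype.card F)) (ψ : AddChar F ℂ) (hψ : ψ ≠ 1) (hm : 1 ≤ m)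
    (h1 : Classif (F := F) ψ 1) (hmc : Classif (F := F) ψ m) : Uniq (F := F) ψ (m + 1) := by
  have h2 := two_ne_zero_of_odd' hodd
  obtain ⟨ν, hν⟩ := exists_nonsquare' (F := F) hodd
  have hν0 := ne_zero_of_not_isSquare hν
  obtain ⟨E₁, O₁, ε₁, w1⟩ := exists_weilPair hodd ψ hψ 1 le_rfl (1 : F) one_ne_zero
  obtain ⟨Eν, Oν, εν, wν⟩ := exists_weilPair hodd ψ hψ 1 le_rfl ν hν0
  obtain ⟨E₁', O₁', ε₁', w1'⟩ := exists_weilPair hodd ψ hψ m hm (1 : F) one_ne_zero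
  obtain ⟨Eν', Oν', εν', wν'⟩ := exists_weilPair hodd ψ hψ m hm ν hν0
  intro χ χ' hχ hχ' hs hs' hM ha
  obtain ⟨M, hM, hM0, hq, hq'⟩ := hM
  have hcf := isClassFunction_of_isCharacter (isCharacter_of_irr hχ)
  have hcf' := isClassFunction_of_isCharacter (isCharacter_of_irr hχ')
  have hne : χ ≠ fun _ => 1 := by
    rintro rfl
    exact hq (qmult_one h2 ψ hψ M hM hM0)
  have hne' : χ' ≠ fun _ => 1 := by
    rintro rfl
    exact hq' (qmult_one h2 ψ hψ M hM hM0)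
  obtain ⟨b₁, bν, t₁, tν, hb₁, hbν, hA, hK, hcase⟩ :=
    small_data hodd ψ hψ hm ν hν h1 hmc w1 wν w1' wν' hχ hne hs
  obtain ⟨c₁, cν, s₁, sν, hc₁, hcν, hA', hK', hcase'⟩ :=
    small_data hodd ψ hψ hm ν hν h1 hmc w1 wν w1' wν' hχ' hne' hs'
  have hkey := key_ineq hodd ψ hψ hm ν hν w1 wν w1' wν' hχ hχ' hs hs' b₁ bν t₁ tν hb₁ hbν hK
    c₁ cν s₁ sν hc₁ hcν hK'
  obtain ⟨c, w, hMc⟩ := hs M hM hq
  have hc : c ≠ 0 := by
    rintro rfl
    apply hM0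
    rw [hMc, zero_smul]
  have hw : w ≠ 0 := by
    rintro rfl
    apply hM0
    rw [hMc]
    ext i j
    simp
  rw [hMc] at hq hq'
  by_contra hne2
  rw [classInner_irr_ne hχ hχ' hne2, Complex.zero_re] at hkey
  rw [hA, hA'] at ha
  rw [qmult_eq_bpar ψ hcf c w hw] at hq
  rw [qmult_eq_bpar ψ hcf' c w hw] at hq'
  obtain ⟨u, hu, hcu | hcu⟩ := sq_class_cases hodd ν hν c hc
  · -- class 1
    rw [hcu, bpar_sq ψ hcf 1 u hu, hb₁] at hq
    rw [hcu, bpar_sq ψ hcf' 1 u hu, hc₁] at hq'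
    have hb1 : b₁ = 1 := by
      rcases hcase with ⟨a, -⟩ | ⟨a, -⟩
      · exact a
      · exact absurd (by rw [a]; simp) hq
    have hc1 : c₁ = 1 := by
      rcases hcase' with ⟨a, -⟩ | ⟨a, -⟩
      · exact a
      · exact absurd (by rw [a]; simp) hq'
    have hbn : bν = 0 := by rcases hcase with ⟨a, b⟩ | ⟨a, b⟩ <;> omega
    have hcn : cν = 0 := by rcases hcase' with ⟨a, b⟩ | ⟨a, b⟩ <;> omega
    subst hb1 hc1 hbn hcn
    have hts : t₁ = s₁ := by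
      cases t₁ <;> cases s₁ <;> cases tν <;> cases sν <;> simp at ha ⊢
    subst hts
    norm_num at hkey
  · -- class ν
    rw [hcu, bpar_sq ψ hcf ν u hu, hbν] at hq
    rw [hcu, bpar_sq ψ hcf' ν u hu, hcν] at hq'
    have hbn : bν = 1 := by
      rcases hcase with ⟨-, a⟩ | ⟨-, a⟩
      · exact absurd (by rw [a]; simp) hq
      · exact a
    have hcn : cν = 1 := by
      rcases hcase' with ⟨-, a⟩ | ⟨-, a⟩
      · exact absurd (by rw [a]; simp) hq'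
      · exact a
    have hb1 : b₁ = 0 := by rcases hcase with ⟨a, b⟩ | ⟨a, b⟩ <;> omega
    have hc1 : c₁ = 0 := by rcases hcase' with ⟨a, b⟩ | ⟨a, b⟩ <;> omega
    subst hb1 hc1 hbn hcn
    have hts : tν = sν := by
      cases t₁ <;> cases s₁ <;> cases tν <;> cases sν <;> simp at ha ⊢
    subst hts
    norm_num at hkey

theorem qsmall_of_puresmall {n : ℕ} (ψ : AddChar F ℂ) (c : F) {χ : Sp n F → ℂ}
    (h : PureSmall ψ c χ) : QSmall ψ χ := by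
  intro M hM hq
  obtain ⟨w, hw⟩ := h M hM hq
  exact ⟨c, w, hw⟩

theorem isWeilPair_pureE {n : ℕ} {ψ : AddChar F ℂ} {c : F} {E O : Sp n F → ℂ} {ε : ℂ}
    (h : IsWeilPair ψ c E O ε) : PureSmall ψ c E := by
  intro M hM hq
  by_contra hcon
  exact hq (h.qE_zero M hM hcon)

theorem isWeilPair_pureO {n : ℕ} {ψ : AddChar F ℂ} {c : F} {E O : Sp n F → ℂ} {ε : ℂ}
    (h : IsWeilPair ψ c E O ε) : PureSmall ψ c O := by
  intro M hM hq
  by_contra hcon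
  exact hq (h.qO_zero M hM hcon)

theorem smul_vecMulVec_isSymm {n : ℕ} (c : F) (w : Fin n → F) : (c • vecMulVec w w).IsSymm := by
  ext i j
  simp only [Matrix.transpose_apply, Matrix.smul_apply, vecMulVec_apply, smul_eq_mul]
  ring

theorem smul_vecMulVec_zero {n : ℕ} (c : F) :
    c • vecMulVec (0 : Fin n → F) (0 : Fin n → F) = 0 := by
  ext i j
  simp

theorem classif_step (hodd : Odd (Fintype.card F)) (ψ : AddChar F ℂ) (hψ : ψ ≠ 1) {n : ℕ}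
    (hn : 1 ≤ n) (hS : Struct (F := F) ψ n) (hU : Uniq (F := F) ψ n) : Classif (F := F) ψ n := by
  have h2 := two_ne_zero_of_odd' hodd
  intro c hc E O ε hw β hβ hp
  by_cases h1 : β = fun _ => 1
  · exact Or.inl h1
  right
  have hsβ := qsmall_of_puresmall ψ c hp
  -- a nonzero constituent
  obtain ⟨M, hM, hM0, hq⟩ : ∃ M : Matrix (Fin n) (Fin n) F, M.IsSymm ∧ M ≠ 0 ∧ qmult ψ β M ≠ 0 := by
    by_contra hcon
    push Not at hcon
    exact h1 (eq_one_of_qmult h2 ψ hψ hn hβ hcon)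
  obtain ⟨w, hMw⟩ := hp M hM hq
  have hw0 : w ≠ 0 := by
    rintro rfl
    exact hM0 (by rw [hMw, smul_vecMulVec_zero])
  obtain ⟨c', hc', -, -, h01⟩ := hS β hβ h1 hsβ
  rcases h01 with h0 | h0
  · right
    apply hU β O hβ hw.irrO hsβ (qsmall_of_puresmall ψ c (isWeilPair_pureO hw))
    · refine ⟨M, hM, hM0, hq, ?_⟩
      rw [hMw, hw.qO_one w hw0]
      exact one_ne_zero
    · rw [h0, hw.qO_origin]
  · left
    apply hU β E hβ hw.irrE hsβ (qsmall_of_puresmall ψ c (isWeilPair_pureE hw))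
    · refine ⟨M, hM, hM0, hq, ?_⟩
      rw [hMw, hw.qE_one w]
      exact one_ne_zero
    · rw [h0]
      have := hw.qE_one 0
      rw [smul_vecMulVec_zero] at this
      rw [this]

theorem classif_all (hodd : Odd (Fintype.card F)) (ψ : AddChar F ℂ) (hψ : ψ ≠ 1) (n : ℕ)
    (hn : 1 ≤ n) : Classif (F := F) ψ n := by
  induction n, hn using Nat.le_induction with
  | base => exact classif_one hodd ψ hψ
  | succ m hm ih =>
    exact classif_step hodd ψ hψ (by omega)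
      (struct_step hodd ψ hψ hm (classif_one hodd ψ hψ) ih)
      (uniq_step hodd ψ hψ hm (classif_one hodd ψ hψ) ih)

/-- the list of small irreducible characters of `Sp n`, `n ≥ 2` -/
theorem small_list (hodd : Odd (Fintype.card F)) (ψ : AddChar F ℂ) (hψ : ψ ≠ 1) (n : ℕ)
    (hn : 2 ≤ n) (ν : F) (hν : ¬ IsSquare ν)
    {E₁ O₁ Eν Oν : Sp n F → ℂ} {ε₁ εν : ℂ}
    (w1 : IsWeilPair ψ 1 E₁ O₁ ε₁) (wν : IsWeilPair ψ ν Eν Oν εν)
    {χ : Sp n F → ℂ} (hχ : IsIrrCharacter (Sp n F) χ) (hs : QSmall ψ χ) :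
    χ = (fun _ => 1) ∨ χ = E₁ ∨ χ = O₁ ∨ χ = Eν ∨ χ = Oν := by
  obtain ⟨m, rfl⟩ : ∃ m, n = m + 1 := ⟨n - 1, by omega⟩
  have hm : 1 ≤ m := by omega
  have hcl := classif_all hodd ψ hψ (m + 1) (by omega)
  have hS := struct_step hodd ψ hψ hm (classif_one hodd ψ hψ) (classif_all hodd ψ hψ m hm)
  by_cases h1 : χ = fun _ => 1
  · exact Or.inl h1
  obtain ⟨c, hc, hp, -, -⟩ := hS χ hχ h1 hs
  obtain ⟨u, hu, hcu | hcu⟩ := sq_class_cases hodd ν hν c hc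
  · rw [hcu] at hp
    have hp1 := (puresmall_congr ψ 1 u hu χ).1 hp
    rcases hcl 1 one_ne_zero E₁ O₁ ε₁ w1 χ hχ hp1 with h | h | h
    · exact Or.inl h
    · exact Or.inr (Or.inl h)
    · exact Or.inr (Or.inr (Or.inl h))
  · rw [hcu] at hp
    have hpν := (puresmall_congr ψ ν u hu χ).1 hp
    rcases hcl ν (ne_zero_of_not_isSquare hν) Eν Oν εν wν χ hχ hpν with h | h | h
    · exact Or.inl h
    · exact Or.inr (Or.inr (Or.inr (Or.inl h)))
    · exact Or.inr (Or.inr (Or.inr (Or.inr h)))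

/-- the arithmetic behind the gap -/
theorem gap_arith (q n k : ℕ) (hq : 3 ≤ q) (hn : 2 ≤ n) (hk : 2 * k ≤ q ^ n + 1) :
    ¬ (q ^ n - 1) * (q ^ n - q) ≤ 2 * (q + 1) * k := by
  have hx : q * q ≤ q ^ n := by
    calc q * q = q ^ 2 := by ring
      _ ≤ q ^ n := Nat.pow_le_pow_right (by omega) hn
  set x := q ^ n with hxdef
  have h1 : 1 ≤ x := by nlinarith
  have h2 : q ≤ x := by nlinarith
  intro h
  have h3 : (x - 1) * (x - q) ≤ (q + 1) * (x + 1) := by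
    calc (x - 1) * (x - q) ≤ 2 * (q + 1) * k := h
      _ = (q + 1) * (2 * k) := by ring
      _ ≤ (q + 1) * (x + 1) := Nat.mul_le_mul_left _ hk
  zify [h1, h2] at h3
  have hq' : (3 : ℤ) ≤ q := by exact_mod_cast hq
  have hx' : (q : ℤ) * q ≤ x := by exact_mod_cast hx
  nlinarith [mul_nonneg (by linarith : (0 : ℤ) ≤ (q : ℤ) - 3) (by linarith : (0 : ℤ) ≤ (q : ℤ) - 3)]

theorem exists_addChar_ne_one' : ∃ ψ : AddChar F ℂ, ψ ≠ 1 := by
  obtain ⟨ψ, hψ⟩ := (AddChar.exists_apply_ne_zero (α := F) (a := 1)).mpr one_ne_zero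
  exact ⟨ψ, fun h => hψ (by rw [h]; rfl)⟩

/-- Weil pairs of different classes are different -/
theorem weil_ne (n : ℕ) (hn : 1 ≤ n) (ψ : AddChar F ℂ) (ν : F) (hν : ¬ IsSquare ν)
    {E₁ O₁ Eν Oν : Sp n F → ℂ} {ε₁ εν : ℂ}
    (w1 : IsWeilPair ψ 1 E₁ O₁ ε₁) (wν : IsWeilPair ψ ν Eν Oν εν) : E₁ ≠ Eν ∧ O₁ ≠ Oν := by
  obtain ⟨m, rfl⟩ : ∃ m, n = m + 1 := ⟨n - 1, by omega⟩
  set w : Fin (m + 1) → F := Pi.single 0 1 with hw
  have hw0 : w ≠ 0 := by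
    intro h
    have := congrFun h 0
    simp [hw] at this
  have hno : ¬ ∃ w' : Fin (m + 1) → F, (1 : F) • vecMulVec w w = ν • vecMulVec w' w' := by
    rintro ⟨w', h⟩
    have h00 := congrFun (congrFun h 0) 0
    simp only [Matrix.smul_apply, vecMulVec_apply, smul_eq_mul, hw, Pi.single_eq_same, mul_one] at h00
    have hw'0 : w' 0 ≠ 0 := by
      intro h0
      rw [h0] at h00
      simp at h00
    apply hν
    refine ⟨(w' 0)⁻¹, ?_⟩
    field_simp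
    rw [h00]
    ring
  constructor
  · intro h
    have h1 := w1.qE_one w
    rw [h, wν.qE_zero _ (smul_vecMulVec_isSymm 1 w) hno] at h1
    exact zero_ne_one h1
  · intro h
    have h1 := w1.qO_one w hw0
    rw [h, wν.qO_zero _ (smul_vecMulVec_isSymm 1 w) hno] at h1
    exact zero_ne_one h1

open Cfsg.Agent.Lib.Helper4 in
theorem main (hodd : Odd (Fintype.card F)) (n : ℕ) (hn : 2 ≤ n) :
    Nat.card {χ : Cfsg.IrrCharacter ↥(Matrix.symplecticGroup (Fin n) F) // (χ : ↥(Matrix.symplecticGroup (Fin n) F) → ℂ) 1 = (((Fintype.card F) ^ n + 1 : ℕ) : ℂ) / 2} = 2 ∧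
    Nat.card {χ : Cfsg.IrrCharacter ↥(Matrix.symplecticGroup (Fin n) F) // (χ : ↥(Matrix.symplecticGroup (Fin n) F) → ℂ) 1 = (((Fintype.card F) ^ n - 1 : ℕ) : ℂ) / 2} = 2 ∧
    ∀ χ : Cfsg.IrrCharacter ↥(Matrix.symplecticGroup (Fin n) F),
      (χ : ↥(Matrix.symplecticGroup (Fin n) F) → ℂ) 1 ≠ 1 →
      (χ : ↥(Matrix.symplecticGroup (Fin n) F) → ℂ) 1 ≠ (((Fintype.card F) ^ n + 1 : ℕ) : ℂ) / 2 →
      (χ : ↥(Matrix.symplecticGroup (Fin n) F) → ℂ) 1 ≠ (((Fintype.card F) ^ n - 1 : ℕ) : ℂ) / 2 →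
      (((Fintype.card F) ^ n - 1 : ℕ) : ℝ) * (((Fintype.card F) ^ n - Fintype.card F : ℕ) : ℝ) / (2 * ((Fintype.card F : ℕ) + 1 : ℝ)) ≤ ‖(χ : ↥(Matrix.symplecticGroup (Fin n) F) → ℂ) 1‖ := by
  classical
  obtain ⟨ψ, hψ⟩ := exists_addChar_ne_one' (F := F)
  obtain ⟨ν, hν⟩ := exists_nonsquare' (F := F) hodd
  have hν0 := ne_zero_of_not_isSquare hν
  obtain ⟨E₁, O₁, ε₁, w1⟩ := exists_weilPair hodd ψ hψ n (by omega) (1 : F) one_ne_zero
  obtain ⟨Eν, Oν, εν, wν⟩ := exists_weilPair hodd ψ hψ n (by omega) ν hν0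
  obtain ⟨hEne, hOne⟩ := weil_ne n (by omega) ψ ν hν w1 wν
  set q := Fintype.card F with hq
  have hq3 : 3 ≤ q := by
    have h1 : 1 < q := Fintype.one_lt_card
    rcases hodd with ⟨k, hk⟩
    omega
  have hqn : 9 ≤ q ^ n := by
    calc 9 = 3 ^ 2 := by norm_num
      _ ≤ q ^ 2 := Nat.pow_le_pow_left hq3 2
      _ ≤ q ^ n := Nat.pow_le_pow_right (by omega) hn
  -- non-small characters are big
  have hbig : ∀ χ : Sp n F → ℂ, IsIrrCharacter (Sp n F) χ → ¬ QSmall ψ χ →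
      ∃ k : ℕ, χ 1 = k ∧ (q ^ n - 1) * (q ^ n - q) ≤ 2 * (q + 1) * k := by
    intro χ hχ hns
    exact thmA hodd ψ hψ (isCharacter_of_irr hχ) hns
  have hlist : ∀ χ : Sp n F → ℂ, IsIrrCharacter (Sp n F) χ → QSmall ψ χ →
      χ = (fun _ => 1) ∨ χ = E₁ ∨ χ = O₁ ∨ χ = Eν ∨ χ = Oν :=
    fun χ hχ hs => small_list hodd ψ hψ n hn ν hν w1 wν hχ hs
  -- characters of degree at most `(q^n+1)/2` are small
  have hsmall : ∀ χ : Sp n F → ℂ, IsIrrCharacter (Sp n F) χ → ∀ k : ℕ, χ 1 = ((k : ℕ) : ℂ) / 2 →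
      k ≤ q ^ n + 1 → QSmall ψ χ := by
    intro χ hχ k hk hle
    by_contra hns
    obtain ⟨k', hk', hb⟩ := hbig χ hχ hns
    have h2k : 2 * k' = k := by
      have : (2 : ℂ) * (k' : ℂ) = (k : ℂ) := by
        rw [← hk', hk]
        ring
      exact_mod_cast this
    exact gap_arith q n k' hq3 hn (by omega) hb
  have hdegE1 : E₁ 1 = (((q ^ n + 1 : ℕ)) : ℂ) / 2 := w1.degE
  have hdegEν : Eν 1 = (((q ^ n + 1 : ℕ)) : ℂ) / 2 := wν.degE
  have hdegO1 : O₁ 1 = (((q ^ n - 1 : ℕ)) : ℂ) / 2 := w1.degO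
  have hdegOν : Oν 1 = (((q ^ n - 1 : ℕ)) : ℂ) / 2 := wν.degO
  have hcast : ∀ a b : ℕ, ((a : ℕ) : ℂ) / 2 = ((b : ℕ) : ℂ) / 2 → a = b := by
    intro a b h
    have : (a : ℂ) = (b : ℂ) := by
      have h2 : (2 : ℂ) ≠ 0 := two_ne_zero
      field_simp at h
      exact h
    exact_mod_cast this
  have hone : ∀ a : ℕ, (1 : ℂ) = ((a : ℕ) : ℂ) / 2 → a = 2 := by
    intro a h
    have : (a : ℂ) = ((2 : ℕ) : ℂ) := by
      have h2 : (2 : ℂ) ≠ 0 := two_ne_zero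
      field_simp at h
      rw [← h]
      norm_num
    exact_mod_cast this
  refine ⟨?_, ?_, ?_⟩
  · rw [Nat.card_eq_two_iff]
    refine ⟨⟨⟨E₁, w1.irrE⟩, hdegE1⟩, ⟨⟨Eν, wν.irrE⟩, hdegEν⟩, ?_, ?_⟩
    · intro h
      apply hEne
      exact congrArg (fun z => (z.1 : Sp n F → ℂ)) h
    · rw [Set.eq_univ_iff_forall]
      rintro ⟨⟨χ, hχ⟩, hdeg⟩
      have hdeg' : χ 1 = (((q ^ n + 1 : ℕ)) : ℂ) / 2 := hdeg
      have hs := hsmall χ hχ _ hdeg' le_rfl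
      rcases hlist χ hχ hs with h | h | h | h | h
      · exfalso
        rw [h] at hdeg'
        have := hone _ hdeg'
        omega
      · left
        apply Subtype.ext
        apply Subtype.ext
        exact h
      · exfalso
        rw [h, hdegO1] at hdeg'
        have := hcast _ _ hdeg'
        omega
      · right
        show _ = _
        apply Subtype.ext
        apply Subtype.ext
        exact h
      · exfalso
        rw [h, hdegOν] at hdeg'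
        have := hcast _ _ hdeg'
        omega
  · rw [Nat.card_eq_two_iff]
    refine ⟨⟨⟨O₁, w1.irrO⟩, hdegO1⟩, ⟨⟨Oν, wν.irrO⟩, hdegOν⟩, ?_, ?_⟩
    · intro h
      apply hOne
      exact congrArg (fun z => (z.1 : Sp n F → ℂ)) h
    · rw [Set.eq_univ_iff_forall]
      rintro ⟨⟨χ, hχ⟩, hdeg⟩
      have hdeg' : χ 1 = (((q ^ n - 1 : ℕ)) : ℂ) / 2 := hdeg
      have hs := hsmall χ hχ _ hdeg' (by omega)
      rcases hlist χ hχ hs with h | h | h | h | h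
      · exfalso
        rw [h] at hdeg'
        have := hone _ hdeg'
        omega
      · exfalso
        rw [h, hdegE1] at hdeg'
        have := hcast _ _ hdeg'
        omega
      · left
        apply Subtype.ext
        apply Subtype.ext
        exact h
      · exfalso
        rw [h, hdegEν] at hdeg'
        have := hcast _ _ hdeg'
        omega
      · right
        show _ = _
        apply Subtype.ext
        apply Subtype.ext
        exact h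
  · rintro ⟨χ, hχ⟩ h1 hE hO
    have h1' : χ 1 ≠ 1 := h1
    have hE' : χ 1 ≠ (((q ^ n + 1 : ℕ)) : ℂ) / 2 := hE
    have hO' : χ 1 ≠ (((q ^ n - 1 : ℕ)) : ℂ) / 2 := hO
    by_cases hs : QSmall ψ χ
    · exfalso
      rcases hlist χ hχ hs with h | h | h | h | h
      · exact h1' (by rw [h])
      · exact hE' (by rw [h, hdegE1])
      · exact hO' (by rw [h, hdegO1])
      · exact hE' (by rw [h, hdegEν])
      · exact hO' (by rw [h, hdegOν])
    · obtain ⟨k, hk, hb⟩ := hbig χ hχ hs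
      show _ ≤ ‖χ 1‖
      rw [hk, Complex.norm_natCast]
      have hpos : (0 : ℝ) < 2 * (((q : ℕ) : ℝ) + 1) := by positivity
      rw [div_le_iff₀ hpos]
      have : (((q ^ n - 1) * (q ^ n - q) : ℕ) : ℝ) ≤ ((2 * (q + 1) * k : ℕ) : ℝ) := by
        exact_mod_cast hb
      push_cast at this ⊢
      linarith

end Asm

end Cfsg.Agent.Lib.Helper2.WG
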